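import Cfsg.Agent.H8.Mon.Bound
import Cfsg.Agent.H705.OreB.HNFive
import Cfsg.Agent.H87.MP.Abs

/-!
# The Monster: the centralizers of the elements of order 5 and 11, odd case, sharper bounds (helper8)

* `hn_inv` : an element of order 5 commuting with `v` of class `5A` commutes with an involution;
* `not_nine` : `5 ^ 9 ∤ |C(x)|`, `x` of order 5 commuting with no involution;
* `not_seven` : `5 ^ 7 ∤ |C(x)|` if `13 ∣ |C(x)|`;
* `five_odd'`, `card11'` : `|C(x)| ≤ 2 · 10 ^ 15`.
-/

set_option autoImplicit false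
set_option maxRecDepth 100000

namespace Cfsg.Agent.H8.Mon

open Subgroup Cfsg Cfsg.Agent.LThreeMB Cfsg.Agent.LThreeB
open Cfsg.Agent.MonsterX Cfsg.Agent.MonsterX.InstData Cfsg.Agent.MonsterP Cfsg.Agent.MonsterU Cfsg.Agent.MonsterU.Ch
open Cfsg.Agent.MonsterU.Lam2 (L2)
open Cfsg.Agent.MonsterN Cfsg.Agent.MonsterX.MainPack Cfsg.Agent.MonsterX.MainBasic Cfsg.Agent.MonsterX.Model
open Cfsg.Spor (Co1)
open Cfsg.Agent.BpSpor.MBigModel (MG zz pi chart cls card_M card_cent_z card_cent_t)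
open Cfsg.Agent.H199.NSmMon (Ev)
open Cfsg.Agent.H199.NSmAbs (exists_common)
open Cfsg.Agent.H199.AbTool (dvd_of_not_dvd dvd_of_not_pow)

theorem card_hn {v : MG} (hv : orderOf v = 5) (hN : Spor.IsoHN (XX v)) :
    Nat.card ↥(centralizer ({v} : Set MG)) = 5 * 273030912000000 := by
  obtain ⟨e⟩ := hN
  rw [H199.NSmMon.card_XX, hv, Nat.card_congr e.toEquiv, Cfsg.Agent.S1701.result.2]

/-- **An element of order 5 commuting with an element of class `5A` commutes with an involution.** -/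
theorem hn_inv {v x : MG} (hv : orderOf v = 5) (hN : Spor.IsoHN (XX v)) (hx : orderOf x = 5) (hxv : x * v = v * x) :
    ∃ s : MG, orderOf s = 2 ∧ s * x = x * s := by
  have hfin : Finite MG := BpSpor.MBigModel.finite
  by_cases h : x ∈ zpowers v
  · have h2F : Fact (Nat.Prime 2) := ⟨Nat.prime_two⟩
    obtain ⟨s, hs⟩ := exists_prime_orderOf_dvd_card' (G := ↥(centralizer ({v} : Set MG))) 2
      (by rw [card_hn hv hN]; norm_num)
    obtain ⟨i, hi⟩ := h
    have hi' : v ^ i = x := hi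
    refine ⟨s, by rw [Subgroup.orderOf_coe, hs], ?_⟩
    have h1 : Commute (s : MG) v := mem_centralizer_singleton_iff.1 s.2
    rw [← hi']
    exact (h1.zpow_right i).eq
  · obtain ⟨e⟩ := hN
    have h5F : Fact (Nat.Prime 5) := ⟨Nat.prime_five⟩
    have hxo : orderOf (mk v hxv) = 5 := by
      refine orderOf_eq_prime ?_ ?_
      · have hc : Commute x v := hxv
        have h1 : (mk v hxv) ^ 5 = mk v (hc.pow_left 5).eq := rfl
        rw [h1]
        refine (LThreeMB.mk_eq_one _).2 ⟨0, ?_⟩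
        rw [zpow_zero, ← hx, pow_orderOf_eq_one]
      · intro h1
        obtain ⟨i, hi⟩ := (LThreeMB.mk_eq_one _).1 h1
        exact h ⟨i, hi⟩
    obtain ⟨u, hu, hux⟩ := H705.OreB.HNFive.hn_five (e (mk v hxv)) (by rw [MulEquiv.orderOf_eq, hxo])
    obtain ⟨s, hs, hs2, hsu⟩ := exists_lift (g := v) (by decide) hv (v := e.symm u) (by rw [MulEquiv.orderOf_eq, hu])
    refine ⟨s, hs2, (comm_of_mk (r := 5) (by decide) hv (by rw [← pow_two, ← hs2, pow_orderOf_eq_one]) hs hxv ?_).symm⟩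
    apply e.injective
    rw [map_mul, map_mul, hsu, e.apply_symm_apply, hux]

/-- a subgroup of order divisible by `5 ^ 3` contains an element of order 5 commuting with an involution -/
theorem exists_in {N : Subgroup MG} (h : 5 ^ (2 + 1) ∣ Nat.card ↥N) :
    ∃ e ∈ N, orderOf e = 5 ∧ ∃ s : MG, orderOf s = 2 ∧ s * e = e * s := by
  have hfin : Finite MG := BpSpor.MBigModel.finite
  obtain ⟨a, ha, hN⟩ := H573.Spor.Monster.exists_five
  obtain ⟨c, e, he, heN, het⟩ := exists_common (p := 5) (n := 9) (a := 3) (b := 7) Nat.prime_five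
    (by rw [card_M]; norm_num) (N := N) (T := centralizer ({a} : Set MG)) h (by rw [card_hn ha hN]; norm_num)
    (by norm_num)
  refine ⟨e, heN, he, pull (c := c⁻¹) ?_⟩
  rw [inv_inv]
  refine hn_inv ha hN ?_ (mem_centralizer_singleton_iff.1 het)
  rw [← he]
  exact MulEquiv.orderOf_eq (MulAut.conj c) e

/-- **The elements of order 13.** -/
theorem not_three_thirteen {y : MG} (hy : orderOf y = 13) : ¬ 5 ^ (2 + 1) ∣ Nat.card ↥(centralizer ({y} : Set MG)) := by
  have hfin : Finite MG := BpSpor.MBigModel.finite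
  intro h
  obtain ⟨e, heN, he, s, hs, hse⟩ := exists_in h
  refine not_thirteen he (ev_of_inv he hs hse) ?_
  rw [← hy]
  exact dvd_cent (mem_centralizer_singleton_iff.1 heN).symm

/-- **`5 ^ 9` does not divide `|C(x)|`.** -/
theorem not_nine {x : MG} (hx : orderOf x = 5) (hno : NoInv x) :
    ¬ 5 ^ (8 + 1) ∣ Nat.card ↥(centralizer ({x} : Set MG)) := by
  have hfin : Finite MG := BpSpor.MBigModel.finite
  intro h
  obtain ⟨a, ha, hN⟩ := H573.Spor.Monster.exists_five
  obtain ⟨c, e, he, heN, het⟩ := exists_common (p := 5) (n := 9) (a := 9) (b := 1) Nat.prime_five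
    (by rw [card_M]; norm_num) (N := centralizer ({x} : Set MG)) (T := zpowers a) h
    (by rw [Nat.card_zpowers, ha]; norm_num) (by norm_num)
  apply hno
  refine pull (c := c⁻¹) ?_
  rw [inv_inv]
  have heo : orderOf (c * e * c⁻¹) = 5 := by
    rw [← he]
    exact MulEquiv.orderOf_eq (MulAut.conj c) e
  have hz : zpowers (c * e * c⁻¹) = zpowers a := by
    apply Subgroup.eq_of_le_of_card_ge
    · rw [zpowers_le]; exact het
    · rw [Nat.card_zpowers, Nat.card_zpowers, heo, ha]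
  obtain ⟨j, hj⟩ : a ∈ zpowers (c * e * c⁻¹) := by rw [hz]; exact mem_zpowers _
  have hj' : (c * e * c⁻¹) ^ j = a := hj
  refine hn_inv ha hN (by rw [← hx]; exact MulEquiv.orderOf_eq (MulAut.conj c) x) ?_
  have h1 : Commute (c * x * c⁻¹) (c * e * c⁻¹) := by
    have h2 := mem_centralizer_singleton_iff.1 heN
    show _ * _ = _ * _
    calc c * x * c⁻¹ * (c * e * c⁻¹) = c * (x * e) * c⁻¹ := by group
      _ = c * (e * x) * c⁻¹ := by rw [h2]
      _ = _ := by group
  rw [← hj']
  exact (h1.zpow_right j).eq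

theorem chk6 : ∀ b < 9, ∀ i < 3, 1 ≤ i → 5 ^ b % 13 = 5 ^ i % 13 → b ≤ 6 := by decide

/-- **`13` and `5 ^ 7`.** -/
theorem not_seven {x : MG} (hx : orderOf x = 5) (hno : NoInv x)
    (h13 : 13 ∣ Nat.card ↥(centralizer ({x} : Set MG))) :
    ¬ 5 ^ (6 + 1) ∣ Nat.card ↥(centralizer ({x} : Set MG)) := by
  have hfin : Finite MG := BpSpor.MBigModel.finite
  have hF5 : Fact (Nat.Prime 5) := ⟨Nat.prime_five⟩
  have hF13 : Fact (Nat.Prime 13) := ⟨by norm_num⟩
  have hno9 := not_nine hx hno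
  intro h5
  obtain ⟨C, hC⟩ : ∃ C : Subgroup MG, C = centralizer ({x} : Set MG) := ⟨_, rfl⟩
  have hxC : x ∈ C := by rw [hC]; exact mem_centralizer_singleton_iff.2 rfl
  have hcen : ∀ g ∈ C, g * x = x * g := fun g hg => by
    rw [hC] at hg
    exact mem_centralizer_singleton_iff.1 hg
  rw [← hC] at h13 h5 hno9
  have hodd : Odd (Nat.card ↥C) := by
    rw [hC, ← Nat.not_even_iff_odd, even_iff_two_dvd]
    exact odd_of hno
  have hsol : Group.IsSolvable ↥C := S0205.result hodd
  have hCM : Nat.card ↥C ∣ 808017424794512875886459904961710757005754368000000000 := by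
    rw [← card_M]
    exact card_subgroup_dvd_card C
  obtain ⟨b, m, hm, hm2⟩ := Nat.exists_eq_pow_mul_and_not_dvd (n := Nat.card ↥C) Nat.card_pos.ne' 5 (by norm_num)
  have hm0 : m ≠ 0 := by
    rintro rfl
    exact hm (dvd_zero _)
  obtain ⟨c, l, hl, hl2⟩ := Nat.exists_eq_pow_mul_and_not_dvd (n := m) hm0 13 (by norm_num)
  have hb9 : b < 9 := by
    by_contra hcon
    apply hno9
    rw [hm2]
    exact (pow_dvd_pow 5 (by omega)).trans (dvd_mul_right _ _)
  have hcm : 13 ^ c ∣ Nat.card ↥C := by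
    rw [hm2, hl2]
    exact Dvd.dvd.mul_left (dvd_mul_right _ _) _
  have hc3 : c ≤ 3 := by
    by_contra hcon
    have h1 : 13 ^ 4 ∣ 808017424794512875886459904961710757005754368000000000 :=
      (pow_dvd_pow 13 (by omega)).trans (hcm.trans hCM)
    norm_num at h1
  have hb4 : 7 ≤ b := by
    rw [hm2] at h5
    by_contra hcon
    have h1 : 5 ^ (6 + 1) ∣ 5 ^ b := by
      have h2 : Nat.Coprime (5 ^ (6 + 1)) m := Nat.Coprime.pow_left _ ((Nat.prime_five.coprime_iff_not_dvd).2 hm)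
      exact h2.dvd_of_dvd_mul_right h5
    have h2 := (Nat.pow_dvd_pow_iff_le_right (by norm_num : 1 < 5)).1 h1
    omega
  have hc2 : 1 ≤ c := by
    rw [hm2, hl2] at h13
    by_contra hcon
    have hc0 : c = 0 := by omega
    rw [hc0, pow_zero, one_mul] at h13
    have h3 : Nat.Coprime 13 (5 ^ b) := Nat.Coprime.pow_right _ (by norm_num)
    exact hl (h3.dvd_of_dvd_mul_left h13)
  -- the Hall subgroup
  have hl5 : ¬ 5 ∣ l := fun h => hm (hl2 ▸ Dvd.dvd.mul_left h _)
  let x' : ↥C := ⟨x, hxC⟩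
  have hx' : orderOf x' = 5 := by rw [← Subgroup.orderOf_coe]; exact hx
  obtain ⟨K, hK, hxK⟩ := Cfsg.Agent.Solvable.Hall.hall_dominance (G := ↥C) (5 ^ b * 13 ^ c) l
    (by rw [hm2, hl2, mul_assoc]) (Nat.Coprime.mul_left ((Nat.prime_five.coprime_iff_not_dvd.2 hl5).pow_left b)
      ((hF13.out.coprime_iff_not_dvd.2 hl).pow_left c)) (zpowers x')
      (by rw [Nat.card_zpowers, hx']; exact Nat.prime_five.coprime_iff_not_dvd.2 hl5)
  -- the Sylow 5-subgroup
  obtain ⟨S⟩ : Nonempty (Sylow 5 ↥K) := inferInstance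
  have hSc : Nat.card ↥(S : Subgroup ↥K) = 5 ^ b := by
    have h1 := S.card_eq_multiplicity
    rw [h1, hK, Nat.factorization_mul (pow_pos (by norm_num) b).ne' (pow_pos (by norm_num) c).ne', Finsupp.add_apply,
      Nat.prime_five.factorization_pow, Finsupp.single_eq_same, hF13.out.factorization_pow,
      Finsupp.single_eq_of_ne (by norm_num), add_zero]
  have hSi : (S : Subgroup ↥K).index = 13 ^ c := by
    have h1 := (S : Subgroup ↥K).card_mul_index
    rw [hSc, hK] at h1
    exact Nat.eq_of_mul_eq_mul_left (pow_pos (by norm_num) b) h1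
  have hSy : Nat.card (Sylow 5 ↥K) = 1 := by
    have h1 := Sylow.card_dvd_index S
    rw [hSi] at h1
    obtain ⟨j, hj, hj'⟩ := (Nat.dvd_prime_pow hF13.out).1 h1
    have h2 : Nat.card (Sylow 5 ↥K) ≡ 1 [MOD 5] := card_sylow_modEq_one 5 ↥K
    rw [hj'] at h2 ⊢
    rw [chk13 j (by omega) h2, pow_zero]
  have hsub : Subsingleton (Sylow 5 ↥K) := (Nat.card_eq_one_iff_unique.1 hSy).1
  have hSn : (S : Subgroup ↥K).Normal := by
    have := hsub
    infer_instance
  -- `x` in the Sylow subgroup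
  let x'' : ↥K := ⟨x', hxK (mem_zpowers _)⟩
  have hx'' : orderOf x'' = 5 := by rw [← Subgroup.orderOf_coe]; exact hx'
  have hxS : x'' ∈ (S : Subgroup ↥K) := by
    have h1 : IsPGroup 5 ↥(zpowers x'') := IsPGroup.of_card (n := 1) (by rw [Nat.card_zpowers, hx'', pow_one])
    obtain ⟨P', hP'⟩ := h1.exists_le_sylow
    rw [Subsingleton.elim P' S] at hP'
    exact hP' (mem_zpowers x'')
  -- an element of order 13
  obtain ⟨y, hy⟩ := exists_prime_orderOf_dvd_card' (G := ↥K) 13 (by
    rw [hK]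
    exact Dvd.dvd.mul_left (dvd_pow_self 13 (by omega)) _)
  have hyo : orderOf ((y : ↥C) : MG) = 13 := by rw [Subgroup.orderOf_coe, Subgroup.orderOf_coe, hy]
  have h1 := H87.MP.fixed_mod (p := 13) (x := y) (S := (S : Subgroup ↥K)) (by rw [← hy, pow_orderOf_eq_one]) (by
    rw [normalizer_eq_top]
    trivial)
  rw [hSc] at h1
  have h2 : Nat.card ↥((S : Subgroup ↥K) ⊓ centralizer ({y} : Set ↥K)) ∣ 5 ^ b := by
    rw [← hSc]
    exact card_dvd_of_le inf_le_left
  obtain ⟨i, -, hi⟩ := (Nat.dvd_prime_pow Nat.prime_five).1 h2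
  have hi3 : i < 3 := by
    by_contra hcon
    refine not_three_thirteen hyo ?_
    have h3 : 5 ^ (2 + 1) ∣ Nat.card ↥((S : Subgroup ↥K) ⊓ centralizer ({y} : Set ↥K)) := by
      rw [hi]
      exact pow_dvd_pow 5 (by omega)
    refine h3.trans ?_
    rw [← card_map_of_injective K.subtype_injective, ← card_map_of_injective C.subtype_injective]
    refine card_dvd_of_le ?_
    rintro _ ⟨_, ⟨g, hg, rfl⟩, rfl⟩
    have h4 := mem_centralizer_singleton_iff.1 hg.2
    exact mem_centralizer_singleton_iff.2 (congrArg (fun t : ↥K => (((t : ↥C) : MG))) h4)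
  have hi1 : 1 ≤ i := by
    by_contra hcon
    have hi0 : i = 0 := by omega
    rw [hi0, pow_zero] at hi
    have h3 : x'' ∈ (S : Subgroup ↥K) ⊓ centralizer ({y} : Set ↥K) := by
      refine ⟨hxS, mem_centralizer_singleton_iff.2 ?_⟩
      refine Subtype.ext (Subtype.ext ?_)
      exact (hcen _ (y : ↥C).2).symm
    rw [Subgroup.card_eq_one.1 hi, Subgroup.mem_bot] at h3
    rw [h3, orderOf_one] at hx''
    norm_num at hx''
  rw [hi] at h1
  have h3 := chk6 b hb9 i hi3 hi1 h1.symm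
  omega

/-- **The elements of order 5 commuting with no involution.** -/
theorem five_odd' (X : Exact) {x : MG} (hx : orderOf x = 5) (hno : NoInv x) :
    Nat.card ↥(centralizer ({x} : Set MG)) ≤ 2 * 10 ^ 15 := by
  have hfin : Finite MG := BpSpor.MBigModel.finite
  set n := Nat.card ↥(centralizer ({x} : Set MG)) with hn
  have hn0 : n ≠ 0 := Nat.card_pos.ne'
  have h0 : n ∣ _ := (card_subgroup_dvd_card (centralizer ({x} : Set MG))).trans card_M'.dvd
  have h1 := dvd_of_not_dvd Nat.prime_two (odd_of hno) h0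
  have h2 := dvd_of_not_dvd (by norm_num) (H199.AbMon.five_not_dvd' (r := 17) (by simp) hx) h1
  have h3 := dvd_of_not_dvd (by norm_num) (r := 19) (fun h => by
    have : Fact (Nat.Prime 19) := ⟨by norm_num⟩
    obtain ⟨y, hy⟩ := exists_prime_orderOf_dvd_card' 19 h
    exact hno (nineteen X.nineteen hx (y := y) (by rw [Subgroup.orderOf_coe, hy])
      (mem_centralizer_singleton_iff.1 y.2).symm)) h2
  have h4 := dvd_of_not_dvd (by norm_num) (H199.AbMon.five_not_dvd' (r := 23) (by simp) hx) h3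
  have h5 := dvd_of_not_dvd (by norm_num) (H199.AbMon.five_not_dvd' (r := 29) (by simp) hx) h4
  have h6 := dvd_of_not_dvd (by norm_num) (no_comm (by norm_num) (by norm_num) X.thirtyone hx) h5
  have h7 := dvd_of_not_dvd (by norm_num) (no_comm (by norm_num) (by norm_num) X.fortyone hx) h6
  have h8 := dvd_of_not_dvd (by norm_num) (H199.AbMon.five_not_dvd' (r := 47) (by simp) hx) h7
  have h9 := dvd_of_not_dvd (by norm_num) (H199.AbMon.five_not_dvd' (r := 59) (by simp) hx) h8
  have h10 := dvd_of_not_dvd (by norm_num) (no_comm (by norm_num) (by norm_num) X.seventyone hx) h9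
  have h11 := dvd_of_not_pow Nat.prime_three hn0 (not_three (Or.inl ⟨rfl, rfl⟩) hx hno) h10
  have h12 : n ∣ 11 ^ 2 * (3 ^ 7 * (13 ^ 3 * (5 ^ 9 * 7 ^ 6))) := h11.trans (by norm_num)
  have h13 := dvd_of_not_pow (k := 1) (by norm_num) hn0 (fun h => by
    obtain ⟨c, w, hw, hwx, hwz⟩ := exists_common (p := 11) (n := 2) (a := 2) (b := 1) (by norm_num)
      (by rw [card_M]; norm_num) (N := centralizer ({x} : Set MG)) (T := centralizer ({zz} : Set MG)) h
      (by rw [card_cent_z]; norm_num) (by norm_num)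
    have h14 := mem_centralizer_singleton_iff.1 hwz
    refine hno (five_inv (s := c⁻¹ * zz * c) hw ((orderOf_conj' c zz).trans BpSpor.MBigModel.orderOf_zz) ?_ hx
      (mem_centralizer_singleton_iff.1 hwx).symm)
    calc w * (c⁻¹ * zz * c) = c⁻¹ * (c * w * c⁻¹ * zz) * c := by group
      _ = c⁻¹ * (zz * (c * w * c⁻¹)) * c := by rw [h14]
      _ = _ := by group) h12
  by_cases h14 : 13 ^ 2 ∣ n
  · have h15 := not_both hno h14
    have h16 : n ∣ 5 ^ 9 * (11 ^ 1 * 3 ^ 7 * 13 ^ 3 * 7 ^ 6) := h13.trans (by norm_num)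
    have h17 := dvd_of_not_pow (k := 3) Nat.prime_five hn0 h15 h16
    exact (Nat.le_of_dvd (by norm_num) h17).trans (by norm_num)
  · have h16 : n ∣ 13 ^ 3 * (11 ^ 1 * 3 ^ 7 * 5 ^ 9 * 7 ^ 6) := h13.trans (by norm_num)
    by_cases h18 : 13 ∣ n
    · have h17 := dvd_of_not_pow (k := 1) (by norm_num) hn0 h14 h16
      have h19 : n ∣ 5 ^ 9 * (11 ^ 1 * 3 ^ 7 * 13 ^ 1 * 7 ^ 6) := h17.trans (by norm_num)
      have h20 := dvd_of_not_pow (k := 6) Nat.prime_five hn0 (not_seven hx hno h18) h19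
      exact (Nat.le_of_dvd (by norm_num) h20).trans (by norm_num)
    · have h17 := dvd_of_not_dvd (by norm_num) h18 h16
      have h19 : n ∣ 5 ^ 9 * (11 ^ 1 * 3 ^ 7 * 7 ^ 6) := h17.trans (by norm_num)
      have h20 := dvd_of_not_pow (k := 8) Nat.prime_five hn0 (not_nine hx hno) h19
      exact (Nat.le_of_dvd (by norm_num) h20).trans (by norm_num)

/-- **The elements of order 11 commuting with no involution.** -/
theorem eleven_odd' (X : Exact) {x : MG} (hx : orderOf x = 11) (hno : NoInv x) :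
    Nat.card ↥(centralizer ({x} : Set MG)) ≤ 2 * 10 ^ 15 := by
  have hfin : Finite MG := BpSpor.MBigModel.finite
  set n := Nat.card ↥(centralizer ({x} : Set MG)) with hn
  have hn0 : n ≠ 0 := Nat.card_pos.ne'
  have h0 : n ∣ _ := (card_subgroup_dvd_card (centralizer ({x} : Set MG))).trans card_M'.dvd
  have h1 := dvd_of_not_dvd Nat.prime_two (odd_of hno) h0
  have h2 := dvd_of_not_dvd (by norm_num) (H199.AbMon.eleven_not_dvd (r := 17) (by simp) hx) h1
  have h3 := dvd_of_not_dvd (by norm_num) (H199.AbMon.eleven_not_dvd (r := 19) (by simp) hx) h2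
  have h4 := dvd_of_not_dvd (by norm_num) (no_comm (by norm_num) (by norm_num) X.twentythree hx) h3
  have h5 := dvd_of_not_dvd (by norm_num) (H199.AbMon.eleven_not_dvd (r := 29) (by simp) hx) h4
  have h6 := dvd_of_not_dvd (by norm_num) (H199.AbMon.eleven_not_dvd (r := 31) (by simp) hx) h5
  have h7 := dvd_of_not_dvd (by norm_num) (H199.AbMon.eleven_not_dvd (r := 41) (by simp) hx) h6
  have h8 := dvd_of_not_dvd (by norm_num) (H199.AbMon.eleven_not_dvd (r := 47) (by simp) hx) h7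
  have h9 := dvd_of_not_dvd (by norm_num) (H199.AbMon.eleven_not_dvd (r := 59) (by simp) hx) h8
  have h10 := dvd_of_not_dvd (by norm_num) (H199.AbMon.eleven_not_dvd (r := 71) (by simp) hx) h9
  have h11 := dvd_of_not_pow Nat.prime_three hn0 (not_three (Or.inr ⟨rfl, rfl⟩) hx hno) h10
  have h12 : n ∣ 5 ^ 9 * (3 ^ 7 * 13 ^ 3 * 11 ^ 2 * 7 ^ 6) := h11.trans (by norm_num)
  have h13 := dvd_of_not_pow (k := 2) Nat.prime_five hn0 (fun h => by
    obtain ⟨e, heN, he, s, hs, hse⟩ := exists_in h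
    exact hno (eleven_inv he (ev_of_inv he hs hse) hx (mem_centralizer_singleton_iff.1 heN).symm)) h12
  exact (Nat.le_of_dvd (by norm_num) h13).trans (by norm_num)

/-- **The elements of order 11.** -/
theorem eleven_le (X : Exact) {x : MG} (hx : orderOf x = 11) :
    Nat.card ↥(centralizer ({x} : Set MG)) ≤ 2 * 10 ^ 15 := by
  by_cases hno : NoInv x
  · exact eleven_odd' X hx hno
  · obtain ⟨v, hv, hvx⟩ := not_not.1 hno
    rw [H199.AbMon.eleven hx (BpSpor.MBigEleven.comm_z hx hv hvx.symm)]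
    norm_num

end Cfsg.Agent.H8.Mon
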