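import Mathlib.GroupTheory.PGroup
import Mathlib.GroupTheory.GroupAction.Quotient
import Mathlib.Tactic.NormNum.Prime
import Mathlib.Tactic.IntervalCases

/-!
# A group of order `13 ^ 2` acting on a 5-group (helper8)

`le_three` : `P` a normal subgroup of order `5 ^ b`, `b ≤ 9`, `E` of order `13 ^ 2`, the elements of order 13 of `E` having at most
`5 ^ 3` fixed points on `P`. Then `b ≤ 3`.
-/

set_option autoImplicit false

namespace Cfsg.Agent.H8.Mon.Cop

open Subgroup MulAction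

universe u

variable {K : Type u} [Group K]

/-- the action by conjugation -/
@[reducible] def act (E S : Subgroup K) (h : ∀ e ∈ E, ∀ s ∈ S, e * s * e⁻¹ ∈ S) : MulAction ↥E ↥S where
  smul e s := ⟨e * s * (e : K)⁻¹, h e e.2 s s.2⟩
  one_smul s := Subtype.ext (by
    show ((1 : ↥E) : K) * (s : K) * ((1 : ↥E) : K)⁻¹ = s
    rw [OneMemClass.coe_one]
    group)
  mul_smul a b s := Subtype.ext (by
    show ((a * b : ↥E) : K) * (s : K) * ((a * b : ↥E) : K)⁻¹ = a * (b * s * (b : K)⁻¹) * (a : K)⁻¹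
    rw [Subgroup.coe_mul]
    group)

theorem chk1 : ∀ i < 4, ∀ j < 4, 5 ^ i % 13 = 5 ^ j % 13 → i = j := by decide

theorem chk2 : ∀ i < 4, ∀ b < 10, (5 ^ b + 168 * 5 ^ i) % 169 = 0 → b = i := by decide

/-- the fixed points of the elements of order 13 -/
theorem fix_eq [Finite K] {P E : Subgroup K} [hPn : P.Normal] {b : ℕ} (hP : Nat.card ↥P = 5 ^ b)
    (hE : Nat.card ↥E = 13 ^ 2) (hEc : ∀ a ∈ E, ∀ c ∈ E, a * c = c * a) {y : K} (hy : y ∈ E)
    (hF : ¬ 5 ^ 4 ∣ Nat.card ↥(P ⊓ centralizer ({y} : Set K))) :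
    P ⊓ centralizer ({y} : Set K) = P ⊓ centralizer (E : Set K) := by
  have h5 : Fact (Nat.Prime 5) := ⟨Nat.prime_five⟩
  have h13 : Fact (Nat.Prime 13) := ⟨by norm_num⟩
  set S := P ⊓ centralizer ({y} : Set K) with hS
  set F := P ⊓ centralizer (E : Set K) with hFdef
  have hFS : F ≤ S := inf_le_inf_left _ (centralizer_le (Set.singleton_subset_iff.2 hy))
  have hinv : ∀ e ∈ E, ∀ s ∈ S, e * s * e⁻¹ ∈ S := by
    intro e he s hs
    have h1 := mem_centralizer_singleton_iff.1 hs.2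
    have h2 : Commute e y := hEc e he y hy
    have h3 : Commute s y := h1
    exact ⟨hPn.conj_mem s hs.1 e, mem_centralizer_singleton_iff.2 ((h2.mul_left h3).mul_left h2.inv_left).eq⟩
  let _ : MulAction ↥E ↥S := act E S hinv
  have hEp : IsPGroup 13 ↥E := IsPGroup.of_card hE
  have h1 := hEp.card_modEq_card_fixedPoints (α := ↥S)
  have h2 : Nat.card ↥(fixedPoints ↥E ↥S) = Nat.card ↥F := by
    refine Nat.card_congr ⟨fun s => ⟨(s : ↥S), s.1.2.1, ?_⟩, fun f => ⟨⟨f, hFS f.2⟩, ?_⟩, fun _ => rfl, fun _ => rfl⟩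
    · refine mem_centralizer_iff.2 fun e he => ?_
      have h3 := congrArg Subtype.val (s.2 ⟨e, he⟩)
      have h4 : e * ((s : ↥S) : K) * e⁻¹ = (s : ↥S) := h3
      exact mul_inv_eq_iff_eq_mul.1 h4
    · intro e
      refine Subtype.ext ?_
      show (e : K) * (f : K) * (e : K)⁻¹ = f
      rw [mul_inv_eq_iff_eq_mul]
      exact mem_centralizer_iff.1 f.2.2 e e.2
  rw [h2] at h1
  have hS5 : ∃ i, i < 4 ∧ Nat.card ↥S = 5 ^ i := by
    have h3 : Nat.card ↥S ∣ 5 ^ b := by rw [← hP]; exact card_dvd_of_le inf_le_left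
    obtain ⟨i, -, hi⟩ := (Nat.dvd_prime_pow Nat.prime_five).1 h3
    refine ⟨i, ?_, hi⟩
    by_contra hcon
    apply hF
    rw [hi]
    exact pow_dvd_pow 5 (by omega)
  obtain ⟨i, hi4, hi⟩ := hS5
  have hF5 : ∃ j, j < 4 ∧ Nat.card ↥F = 5 ^ j := by
    have h3 : Nat.card ↥F ∣ 5 ^ i := by rw [← hi]; exact card_dvd_of_le hFS
    obtain ⟨j, hj, hj'⟩ := (Nat.dvd_prime_pow Nat.prime_five).1 h3
    exact ⟨j, by omega, hj'⟩
  obtain ⟨j, hj4, hj⟩ := hF5
  rw [hi, hj] at h1
  have h3 := chk1 i hi4 j hj4 h1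
  subst h3
  refine (Subgroup.eq_of_le_of_card_ge hFS ?_).symm
  rw [hi, hj]

/-- **The bound.** -/
theorem le_three [Finite K] {P E : Subgroup K} [hPn : P.Normal] {b : ℕ} (hP : Nat.card ↥P = 5 ^ b) (hb : b ≤ 9)
    (hE : Nat.card ↥E = 13 ^ 2)
    (hF : ∀ y ∈ E, orderOf y = 13 → ¬ 5 ^ 4 ∣ Nat.card ↥(P ⊓ centralizer ({y} : Set K))) : b ≤ 3 := by
  classical
  have h13 : Fact (Nat.Prime 13) := ⟨by norm_num⟩
  have hEc : ∀ a ∈ E, ∀ c ∈ E, a * c = c * a := by
    intro a ha c hc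
    have h1 := (IsPGroup.isMulCommutative_of_card_eq_prime_sq hE).is_comm.comm (⟨a, ha⟩ : ↥E) ⟨c, hc⟩
    exact congrArg Subtype.val h1
  set F := P ⊓ centralizer (E : Set K) with hFdef
  have hinv : ∀ e ∈ E, ∀ s ∈ P, e * s * e⁻¹ ∈ P := fun e _ s hs => hPn.conj_mem s hs e
  -- the fixed points
  have hfix : ∀ e ∈ E, e ≠ 1 → P ⊓ centralizer ({e} : Set K) = F := by
    intro e he he1
    obtain ⟨y, hy, hyo, hye⟩ : ∃ y ∈ E, orderOf y = 13 ∧ y ∈ zpowers e := by
      have h1 : orderOf e ∣ 13 ^ 2 := by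
        rw [← hE, ← Subgroup.orderOf_mk e he]
        exact orderOf_dvd_natCard _
      obtain ⟨n, hn, hn'⟩ := (Nat.dvd_prime_pow h13.out).1 h1
      have hn0 : n ≠ 0 := by
        rintro rfl
        rw [pow_zero, orderOf_eq_one_iff] at hn'
        exact he1 hn'
      refine ⟨e ^ 13 ^ (n - 1), E.pow_mem he _, ?_, ⟨((13 ^ (n - 1) : ℕ) : ℤ), zpow_natCast _ _⟩⟩
      rw [orderOf_pow_of_dvd (pow_pos (by norm_num) _).ne' (by rw [hn']; exact pow_dvd_pow 13 (by omega)), hn',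
        Nat.pow_div (by omega) (by norm_num)]
      have : n - (n - 1) = 1 := by omega
      rw [this, pow_one]
    have h2 := fix_eq hP hE hEc hy (hF y hy hyo)
    apply le_antisymm
    · rw [hFdef, ← h2]
      refine inf_le_inf_left _ ?_
      intro g hg
      have h3 : Commute g e := mem_centralizer_singleton_iff.1 hg
      obtain ⟨i, hi⟩ := hye
      have hi' : e ^ i = y := hi
      rw [mem_centralizer_singleton_iff, ← hi']
      exact (h3.zpow_right i).eq
    · exact inf_le_inf_left _ (centralizer_le (Set.singleton_subset_iff.2 he))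
  -- a `13`-element
  obtain ⟨y, hy⟩ := exists_prime_orderOf_dvd_card' (G := ↥E) 13 (by rw [hE]; norm_num)
  have hyo : orderOf (y : K) = 13 := by rw [Subgroup.orderOf_coe, hy]
  have hy1 : (y : K) ≠ 1 := by
    intro h
    rw [h, orderOf_one] at hyo
    norm_num at hyo
  have hFc : ∃ i, i < 4 ∧ Nat.card ↥F = 5 ^ i := by
    have h1 := hF y y.2 hyo
    rw [hfix y y.2 hy1] at h1
    have h3 : Nat.card ↥F ∣ 5 ^ b := by rw [← hP]; exact card_dvd_of_le inf_le_left
    obtain ⟨i, -, hi⟩ := (Nat.dvd_prime_pow Nat.prime_five).1 h3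
    refine ⟨i, ?_, hi⟩
    by_contra hcon
    apply h1
    rw [hi]
    exact pow_dvd_pow 5 (by omega)
  obtain ⟨i, hi4, hi⟩ := hFc
  -- Burnside
  let _ : MulAction ↥E ↥P := act E P hinv
  have := Fintype.ofFinite ↥E
  have := Fintype.ofFinite ↥P
  have hB := sum_card_fixedBy_eq_card_orbits_mul_card_group ↥E ↥P
  have h1 : ∀ e : ↥E, Fintype.card (fixedBy ↥P e) = Nat.card ↥(P ⊓ centralizer ({(e : K)} : Set K)) := by
    intro e
    rw [← Nat.card_eq_fintype_card]
    refine Nat.card_congr ⟨fun s => ⟨(s : ↥P), s.1.2, ?_⟩, fun f => ⟨⟨f, f.2.1⟩, ?_⟩, fun _ => rfl, fun _ => rfl⟩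
    · have h4 : (e : K) * ((s : ↥P) : K) * (e : K)⁻¹ = (s : ↥P) := congrArg Subtype.val s.2
      exact mem_centralizer_singleton_iff.2 (mul_inv_eq_iff_eq_mul.1 h4).symm
    · refine Subtype.ext ?_
      show (e : K) * (f : K) * (e : K)⁻¹ = f
      rw [mul_inv_eq_iff_eq_mul]
      exact (mem_centralizer_singleton_iff.1 f.2.2).symm
  have h2 : ∑ e : ↥E, Fintype.card (fixedBy ↥P e) = 5 ^ b + 168 * 5 ^ i := by
    rw [← Finset.add_sum_erase _ _ (Finset.mem_univ (1 : ↥E))]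
    congr 1
    · rw [h1, OneMemClass.coe_one]
      have h3 : P ⊓ centralizer ({(1 : K)} : Set K) = P := by
        rw [inf_eq_left]
        intro p _
        rw [mem_centralizer_singleton_iff, mul_one, one_mul]
      rw [h3, hP]
    · rw [Finset.sum_congr rfl (fun e he => by
        rw [h1, hfix e e.2 (fun h => (Finset.mem_erase.1 he).1 (Subtype.ext h)), hi]), Finset.sum_const,
        Finset.card_erase_of_mem (Finset.mem_univ _), Finset.card_univ, ← Nat.card_eq_fintype_card, hE, smul_eq_mul]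
      norm_num
  rw [h2, ← Nat.card_eq_fintype_card (α := ↥E), hE] at hB
  have h3 : (5 ^ b + 168 * 5 ^ i) % 169 = 0 := by
    rw [hB]
    exact Nat.mul_mod_left _ 169
  have h4 := chk2 i hi4 b (by omega) h3
  omega

end Cfsg.Agent.H8.Mon.Cop
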