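import Cfsg.Agent.H8.Mon.Ev
import Cfsg.Agent.H8.Mon.Cop
import Cfsg.Agent.Solvable.Hall
import Cfsg.Agent.S0205

/-!
# The Monster: the centralizers of the elements of order 5 and 11, odd case (helper8)

* `five_odd` : `|C(x)| ≤ 8 · 10 ^ 16`, `x` of order 5 commuting with no involution;
* `eleven_odd` : `|C(x)| ≤ 8 · 10 ^ 16`, `x` of order 11 commuting with no involution;
* `card11` : all `x` of order 11.
-/

set_option autoImplicit false
set_option maxRecDepth 100000

namespace Cfsg.Agent.H8.Mon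

open Subgroup Cfsg Cfsg.Agent.LThreeMB Cfsg.Agent.LThreeB
open Cfsg.Agent.MonsterX Cfsg.Agent.MonsterX.InstData Cfsg.Agent.MonsterP Cfsg.Agent.MonsterU Cfsg.Agent.MonsterU.Ch
open Cfsg.Agent.MonsterU.Lam2 (L2)
open Cfsg.Agent.MonsterN Cfsg.Agent.MonsterX.MainPack Cfsg.Agent.MonsterX.MainBasic Cfsg.Agent.MonsterX.Model
open Cfsg.Spor (Co1)
open Cfsg.Agent.BpSpor.MBigModel (MG zz pi chart cls card_M card_cent_z card_cent_t)
open Cfsg.Agent.H199.NSmMon (Ev)
open Cfsg.Agent.H199.NSmAbs (exists_common)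
open Cfsg.Agent.H199.AbTool (dvd_of_not_dvd dvd_of_not_pow)

/-- `x` commutes with no involution -/
def NoInv (x : MG) : Prop := ¬ ∃ v : MG, orderOf v = 2 ∧ v * x = x * v

theorem taG : LThreeB.Row.TA (tG LitFin.all.hG LitFin.all.hR) := IsConj.refl _

theorem dvd_cent {a b : MG} (h : a * b = b * a) : orderOf a ∣ Nat.card ↥(centralizer ({b} : Set MG)) := by
  rw [← Subgroup.orderOf_mk a (mem_centralizer_singleton_iff.2 h)]
  exact orderOf_dvd_natCard _

/-- the conjugate of the base transposition -/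
theorem ta_back {g x : MG} (h : (g * x * g⁻¹) ∈ centralizer ({tG LitFin.all.hG LitFin.all.hR} : Set MG)) :
    LThreeB.Row.TA (g⁻¹ * tG LitFin.all.hG LitFin.all.hR * g) ∧
      x * (g⁻¹ * tG LitFin.all.hG LitFin.all.hR * g) = (g⁻¹ * tG LitFin.all.hG LitFin.all.hR * g) * x := by
  have h1 := mem_centralizer_singleton_iff.1 h
  refine ⟨isConj_iff.2 ⟨g⁻¹, by rw [inv_inv]⟩, ?_⟩
  set t := tG LitFin.all.hG LitFin.all.hR
  calc x * (g⁻¹ * t * g) = g⁻¹ * (g * x * g⁻¹ * t) * g := by group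
    _ = g⁻¹ * (t * (g * x * g⁻¹)) * g := by rw [h1]
    _ = _ := by group

/-- **The 3-part.** -/
theorem not_three {q k : ℕ} (hqk : Adm q k) {x : MG} (hx : orderOf x = q) (hno : NoInv x) :
    ¬ 3 ^ (7 + 1) ∣ Nat.card ↥(centralizer ({x} : Set MG)) := by
  have hfin : Finite MG := BpSpor.MBigModel.finite
  intro h
  obtain ⟨c, g, hg, hgx, hgt⟩ := exists_common (p := 3) (n := 20) (a := 8) (b := 13) Nat.prime_three
    (by rw [card_M]; norm_num) (N := centralizer ({x} : Set MG))
    (T := centralizer ({tG LitFin.all.hG LitFin.all.hR} : Set MG)) h (by rw [card_cent_t taG]; norm_num) (by norm_num)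
  obtain ⟨h1, h2⟩ := ta_back hgt
  exact hno (three_kill hqk hg h1 h2 hx (mem_centralizer_singleton_iff.1 hgx).symm)

/-- **The elements of order 13.** -/
theorem not_four_thirteen {y : MG} (hy : orderOf y = 13) : ¬ 5 ^ 4 ∣ Nat.card ↥(centralizer ({y} : Set MG)) := by
  have hfin : Finite MG := BpSpor.MBigModel.finite
  intro h
  obtain ⟨c, v, hv, hvy, hvt⟩ := exists_common (p := 5) (n := 9) (a := 4) (b := 6) Nat.prime_five
    (by rw [card_M]; norm_num) (N := centralizer ({y} : Set MG))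
    (T := centralizer ({tG LitFin.all.hG LitFin.all.hR} : Set MG)) h (by rw [card_cent_t taG]; norm_num) (by norm_num)
  obtain ⟨h1, h2⟩ := ta_back hvt
  refine not_thirteen hv (ev_of_ta hv h1 h2) ?_
  rw [← hy]
  exact dvd_cent (mem_centralizer_singleton_iff.1 hvy).symm

/-- the order of `C(x)` is odd -/
theorem odd_of {x : MG} (hno : NoInv x) : ¬ 2 ∣ Nat.card ↥(centralizer ({x} : Set MG)) := by
  have hfin : Finite MG := BpSpor.MBigModel.finite
  intro h
  have : Fact (Nat.Prime 2) := ⟨Nat.prime_two⟩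
  obtain ⟨v, hv⟩ := exists_prime_orderOf_dvd_card' 2 h
  exact hno ⟨v, by rw [Subgroup.orderOf_coe, hv], mem_centralizer_singleton_iff.1 v.2⟩

theorem chk13 : ∀ j < 4, 13 ^ j % 5 = 1 → j = 0 := by decide

/-- **`13 ^ 2` and `5 ^ 4`.** -/
theorem not_both {x : MG} (hno : NoInv x) (h13 : 13 ^ 2 ∣ Nat.card ↥(centralizer ({x} : Set MG))) :
    ¬ 5 ^ 4 ∣ Nat.card ↥(centralizer ({x} : Set MG)) := by
  have hfin : Finite MG := BpSpor.MBigModel.finite
  have hF5 : Fact (Nat.Prime 5) := ⟨Nat.prime_five⟩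
  have hF13 : Fact (Nat.Prime 13) := ⟨by norm_num⟩
  intro h5
  obtain ⟨C, hC⟩ : ∃ C : Subgroup MG, C = centralizer ({x} : Set MG) := ⟨_, rfl⟩
  rw [← hC] at h13 h5
  have hodd : Odd (Nat.card ↥C) := by
    rw [hC, ← Nat.not_even_iff_odd, even_iff_two_dvd]
    exact odd_of hno
  have hsol : Group.IsSolvable ↥C := S0205.result hodd
  have hCM : Nat.card ↥C ∣ 808017424794512875886459904961710757005754368000000000 := by
    rw [← card_M]
    exact card_subgroup_dvd_card C
  obtain ⟨b, m, hm, hm2⟩ := Nat.exists_eq_pow_mul_and_not_dvd (n := Nat.card ↥C) Nat.card_pos.ne' 5 (by norm_num)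
  have hm0 : m ≠ 0 := by
    rintro rfl
    exact hm (dvd_zero _)
  obtain ⟨c, l, hl, hl2⟩ := Nat.exists_eq_pow_mul_and_not_dvd (n := m) hm0 13 (by norm_num)
  have hb9 : b ≤ 9 := by
    by_contra hcon
    have h1 : 5 ^ 10 ∣ 808017424794512875886459904961710757005754368000000000 :=
      (pow_dvd_pow 5 (by omega)).trans ((Dvd.intro _ hm2.symm).trans hCM)
    norm_num at h1
  have hcm : 13 ^ c ∣ Nat.card ↥C := by
    rw [hm2, hl2]
    exact Dvd.dvd.mul_left (dvd_mul_right _ _) _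
  have hc3 : c ≤ 3 := by
    by_contra hcon
    have h1 : 13 ^ 4 ∣ 808017424794512875886459904961710757005754368000000000 :=
      (pow_dvd_pow 13 (by omega)).trans (hcm.trans hCM)
    norm_num at h1
  have hb4 : 4 ≤ b := by
    rw [hm2] at h5
    by_contra hcon
    have h1 : 5 ^ 4 ∣ 5 ^ b := by
      have h2 : Nat.Coprime (5 ^ 4) m := Nat.Coprime.pow_left 4 ((Nat.prime_five.coprime_iff_not_dvd).2 hm)
      exact h2.dvd_of_dvd_mul_right h5
    have h2 := (Nat.pow_dvd_pow_iff_le_right (by norm_num : 1 < 5)).1 h1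
    omega
  have hc2 : 2 ≤ c := by
    rw [hm2, hl2] at h13
    by_contra hcon
    have h1 : 13 ^ 2 ∣ 13 ^ c := by
      have h2 : Nat.Coprime (13 ^ 2) l := Nat.Coprime.pow_left 2 ((hF13.out.coprime_iff_not_dvd).2 hl)
      have h3 : Nat.Coprime (13 ^ 2) (5 ^ b) := Nat.Coprime.pow _ _ (by norm_num)
      exact h2.dvd_of_dvd_mul_right (h3.dvd_of_dvd_mul_left h13)
    have h2 := (Nat.pow_dvd_pow_iff_le_right (by norm_num : 1 < 13)).1 h1
    omega
  -- the Hall subgroup
  have hl5 : ¬ 5 ∣ l := fun h => hm (hl2 ▸ Dvd.dvd.mul_left h _)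
  obtain ⟨K, hK⟩ := Cfsg.Agent.Solvable.Hall.hall_exists (G := ↥C) (5 ^ b * 13 ^ c) l
    (by rw [hm2, hl2, mul_assoc]) (Nat.Coprime.mul_left ((Nat.prime_five.coprime_iff_not_dvd.2 hl5).pow_left b)
      ((hF13.out.coprime_iff_not_dvd.2 hl).pow_left c))
  -- the Sylow 5-subgroup
  obtain ⟨S⟩ : Nonempty (Sylow 5 ↥K) := inferInstance
  have hSc : Nat.card ↥(S : Subgroup ↥K) = 5 ^ b := by
    have h1 := S.card_eq_multiplicity
    rw [h1, hK, Nat.factorization_mul (pow_pos (by norm_num) b).ne' (pow_pos (by norm_num) c).ne', Finsupp.add_apply,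
      Nat.prime_five.factorization_pow, Finsupp.single_eq_same, hF13.out.factorization_pow,
      Finsupp.single_eq_of_ne (by norm_num), add_zero]
  have hSi : (S : Subgroup ↥K).index = 13 ^ c := by
    have h1 := (S : Subgroup ↥K).card_mul_index
    rw [hSc, hK] at h1
    exact Nat.eq_of_mul_eq_mul_left (pow_pos (by norm_num) b) h1
  have hSy : Nat.card (Sylow 5 ↥K) = 1 := by
    have h1 := Sylow.card_dvd_index S
    rw [hSi] at h1
    obtain ⟨j, hj, hj'⟩ := (Nat.dvd_prime_pow hF13.out).1 h1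
    have h2 : Nat.card (Sylow 5 ↥K) ≡ 1 [MOD 5] := card_sylow_modEq_one 5 ↥K
    rw [hj'] at h2 ⊢
    rw [chk13 j (by omega) h2, pow_zero]
  have hsub : Subsingleton (Sylow 5 ↥K) := (Nat.card_eq_one_iff_unique.1 hSy).1
  have hSn : (S : Subgroup ↥K).Normal := by
    have := hsub
    infer_instance
  -- the subgroup of order `13 ^ 2`
  obtain ⟨E, hE⟩ := Sylow.exists_subgroup_card_pow_prime (G := ↥K) 13 (n := 2) (by
    rw [hK]
    exact Dvd.dvd.mul_left (pow_dvd_pow 13 hc2) _)
  have h3 := Cop.le_three (P := (S : Subgroup ↥K)) (E := E) hSc hb9 hE (fun y _ hy h => by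
    refine not_four_thirteen (y := ((y : ↥C) : MG)) (by rw [Subgroup.orderOf_coe, Subgroup.orderOf_coe, hy]) ?_
    refine h.trans ?_
    rw [← card_map_of_injective K.subtype_injective, ← card_map_of_injective C.subtype_injective]
    refine card_dvd_of_le ?_
    rintro _ ⟨_, ⟨g, hg, rfl⟩, rfl⟩
    have h4 := mem_centralizer_singleton_iff.1 hg.2
    exact mem_centralizer_singleton_iff.2 (congrArg (fun t : ↥K => (((t : ↥C) : MG))) h4))
  omega

/-- the order of the Monster -/
theorem card_M' : Nat.card MG = 2 ^ 46 * (17 ^ 1 * (19 ^ 1 * (23 ^ 1 * (29 ^ 1 * (31 ^ 1 * (41 ^ 1 * (47 ^ 1 * (59 ^ 1 *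
    (71 ^ 1 * (3 ^ 20 * (11 ^ 2 * (13 ^ 3 * (5 ^ 9 * 7 ^ 6))))))))))))) := by
  rw [card_M]
  norm_num

/-- the exact centralizers of the elements of large prime order -/
structure Exact : Prop where
  nineteen : ∀ y : MG, orderOf y = 19 → Nat.card ↥(centralizer ({y} : Set MG)) = 60 * 19
  twentythree : ∀ y : MG, orderOf y = 23 → Nat.card ↥(centralizer ({y} : Set MG)) = 24 * 23
  thirtyone : ∀ y : MG, orderOf y = 31 → Nat.card ↥(centralizer ({y} : Set MG)) = 6 * 31
  fortyone : ∀ y : MG, orderOf y = 41 → Nat.card ↥(centralizer ({y} : Set MG)) = 41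
  seventyone : ∀ y : MG, orderOf y = 71 → Nat.card ↥(centralizer ({y} : Set MG)) = 71

/-- an element of order `q` and an element of order `r` do not commute -/
theorem no_comm {q r c : ℕ} (hr : r.Prime) (hq : ¬ q ∣ c)
    (hc : ∀ y : MG, orderOf y = r → Nat.card ↥(centralizer ({y} : Set MG)) = c) {x : MG} (hx : orderOf x = q) :
    ¬ r ∣ Nat.card ↥(centralizer ({x} : Set MG)) := by
  have hfin : Finite MG := BpSpor.MBigModel.finite
  have : Fact r.Prime := ⟨hr⟩
  intro h
  obtain ⟨y, hy⟩ := exists_prime_orderOf_dvd_card' r h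
  apply hq
  rw [← hc y (by rw [Subgroup.orderOf_coe, hy]), ← hx]
  exact dvd_cent (mem_centralizer_singleton_iff.1 y.2).symm

/-- **The elements of order 5 commuting with no involution.** -/
theorem five_odd (X : Exact) {x : MG} (hx : orderOf x = 5) (hno : NoInv x) :
    Nat.card ↥(centralizer ({x} : Set MG)) ≤ 8 * 10 ^ 16 := by
  have hfin : Finite MG := BpSpor.MBigModel.finite
  set n := Nat.card ↥(centralizer ({x} : Set MG)) with hn
  have hn0 : n ≠ 0 := Nat.card_pos.ne'
  have h0 : n ∣ _ := (card_subgroup_dvd_card (centralizer ({x} : Set MG))).trans card_M'.dvd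
  have h1 := dvd_of_not_dvd Nat.prime_two (odd_of hno) h0
  have h2 := dvd_of_not_dvd (by norm_num) (H199.AbMon.five_not_dvd' (r := 17) (by simp) hx) h1
  have h3 := dvd_of_not_dvd (by norm_num) (r := 19) (fun h => by
    have : Fact (Nat.Prime 19) := ⟨by norm_num⟩
    obtain ⟨y, hy⟩ := exists_prime_orderOf_dvd_card' 19 h
    exact hno (nineteen X.nineteen hx (y := y) (by rw [Subgroup.orderOf_coe, hy])
      (mem_centralizer_singleton_iff.1 y.2).symm)) h2
  have h4 := dvd_of_not_dvd (by norm_num) (H199.AbMon.five_not_dvd' (r := 23) (by simp) hx) h3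
  have h5 := dvd_of_not_dvd (by norm_num) (H199.AbMon.five_not_dvd' (r := 29) (by simp) hx) h4
  have h6 := dvd_of_not_dvd (by norm_num) (no_comm (by norm_num) (by norm_num) X.thirtyone hx) h5
  have h7 := dvd_of_not_dvd (by norm_num) (no_comm (by norm_num) (by norm_num) X.fortyone hx) h6
  have h8 := dvd_of_not_dvd (by norm_num) (H199.AbMon.five_not_dvd' (r := 47) (by simp) hx) h7
  have h9 := dvd_of_not_dvd (by norm_num) (H199.AbMon.five_not_dvd' (r := 59) (by simp) hx) h8
  have h10 := dvd_of_not_dvd (by norm_num) (no_comm (by norm_num) (by norm_num) X.seventyone hx) h9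
  have h11 := dvd_of_not_pow Nat.prime_three hn0 (not_three (Or.inl ⟨rfl, rfl⟩) hx hno) h10
  have h12 : n ∣ 11 ^ 2 * (3 ^ 7 * (13 ^ 3 * (5 ^ 9 * 7 ^ 6))) := h11.trans (by norm_num)
  have h13 := dvd_of_not_pow (k := 1) (by norm_num) hn0 (fun h => by
    obtain ⟨c, w, hw, hwx, hwz⟩ := exists_common (p := 11) (n := 2) (a := 2) (b := 1) (by norm_num)
      (by rw [card_M]; norm_num) (N := centralizer ({x} : Set MG)) (T := centralizer ({zz} : Set MG)) h
      (by rw [card_cent_z]; norm_num) (by norm_num)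
    have h14 := mem_centralizer_singleton_iff.1 hwz
    refine hno (five_inv (s := c⁻¹ * zz * c) hw ((orderOf_conj' c zz).trans BpSpor.MBigModel.orderOf_zz) ?_ hx
      (mem_centralizer_singleton_iff.1 hwx).symm)
    calc w * (c⁻¹ * zz * c) = c⁻¹ * (c * w * c⁻¹ * zz) * c := by group
      _ = c⁻¹ * (zz * (c * w * c⁻¹)) * c := by rw [h14]
      _ = _ := by group) h12
  by_cases h14 : 13 ^ 2 ∣ n
  · have h15 := not_both hno h14
    have h16 : n ∣ 5 ^ 9 * (11 ^ 1 * 3 ^ 7 * 13 ^ 3 * 7 ^ 6) := h13.trans (by norm_num)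
    have h17 := dvd_of_not_pow (k := 3) Nat.prime_five hn0 h15 h16
    exact (Nat.le_of_dvd (by norm_num) h17).trans (by norm_num)
  · have h16 : n ∣ 13 ^ 3 * (11 ^ 1 * 3 ^ 7 * 5 ^ 9 * 7 ^ 6) := h13.trans (by norm_num)
    have h17 := dvd_of_not_pow (k := 1) (by norm_num) hn0 h14 h16
    exact (Nat.le_of_dvd (by norm_num) h17).trans (by norm_num)

/-- **The elements of order 11 commuting with no involution.** -/
theorem eleven_odd (X : Exact) {x : MG} (hx : orderOf x = 11) (hno : NoInv x) :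
    Nat.card ↥(centralizer ({x} : Set MG)) ≤ 8 * 10 ^ 16 := by
  have hfin : Finite MG := BpSpor.MBigModel.finite
  set n := Nat.card ↥(centralizer ({x} : Set MG)) with hn
  have hn0 : n ≠ 0 := Nat.card_pos.ne'
  have h0 : n ∣ _ := (card_subgroup_dvd_card (centralizer ({x} : Set MG))).trans card_M'.dvd
  have h1 := dvd_of_not_dvd Nat.prime_two (odd_of hno) h0
  have h2 := dvd_of_not_dvd (by norm_num) (H199.AbMon.eleven_not_dvd (r := 17) (by simp) hx) h1
  have h3 := dvd_of_not_dvd (by norm_num) (H199.AbMon.eleven_not_dvd (r := 19) (by simp) hx) h2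
  have h4 := dvd_of_not_dvd (by norm_num) (no_comm (by norm_num) (by norm_num) X.twentythree hx) h3
  have h5 := dvd_of_not_dvd (by norm_num) (H199.AbMon.eleven_not_dvd (r := 29) (by simp) hx) h4
  have h6 := dvd_of_not_dvd (by norm_num) (H199.AbMon.eleven_not_dvd (r := 31) (by simp) hx) h5
  have h7 := dvd_of_not_dvd (by norm_num) (H199.AbMon.eleven_not_dvd (r := 41) (by simp) hx) h6
  have h8 := dvd_of_not_dvd (by norm_num) (H199.AbMon.eleven_not_dvd (r := 47) (by simp) hx) h7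
  have h9 := dvd_of_not_dvd (by norm_num) (H199.AbMon.eleven_not_dvd (r := 59) (by simp) hx) h8
  have h10 := dvd_of_not_dvd (by norm_num) (H199.AbMon.eleven_not_dvd (r := 71) (by simp) hx) h9
  have h11 := dvd_of_not_pow Nat.prime_three hn0 (not_three (Or.inr ⟨rfl, rfl⟩) hx hno) h10
  have h12 : n ∣ 5 ^ 9 * (3 ^ 7 * 13 ^ 3 * 11 ^ 2 * 7 ^ 6) := h11.trans (by norm_num)
  have h13 := dvd_of_not_pow (k := 3) Nat.prime_five hn0 (fun h => by
    obtain ⟨c, v, hv, hvy, hvt⟩ := exists_common (p := 5) (n := 9) (a := 4) (b := 6) Nat.prime_five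
      (by rw [card_M]; norm_num) (N := centralizer ({x} : Set MG))
      (T := centralizer ({tG LitFin.all.hG LitFin.all.hR} : Set MG)) h (by rw [card_cent_t taG]; norm_num) (by norm_num)
    obtain ⟨h1, h2⟩ := ta_back hvt
    exact hno (eleven_inv hv (ev_of_ta hv h1 h2) hx (mem_centralizer_singleton_iff.1 hvy).symm)) h12
  exact (Nat.le_of_dvd (by norm_num) h13).trans (by norm_num)

/-- **The elements of order 11.** -/
theorem card11 (X : Exact) {x : MG} (hx : orderOf x = 11) :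
    Nat.card ↥(centralizer ({x} : Set MG)) ≤ 8 * 10 ^ 16 := by
  by_cases hno : NoInv x
  · exact eleven_odd X hx hno
  · obtain ⟨v, hv, hvx⟩ := not_not.1 hno
    rw [H199.AbMon.eleven hx (BpSpor.MBigEleven.comm_z hx hv hvx.symm)]
    norm_num

end Cfsg.Agent.H8.Mon
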