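import Cfsg.Agent.H8.Mon.Tool
import Cfsg.Agent.CoThreeStd.MTwelveCent
import Cfsg.Agent.H573.Spor.Lift
import Cfsg.Agent.H705.OreB.BInvFive
import Cfsg.Agent.H546.MFiveFull
import Cfsg.Agent.H800.ME.Final

/-!
# The Monster: elements of order 5 commuting with involutions (helper8)

* `ev_of_ta` : `v` of order 5 commuting with a transposition commutes with a conjugate of `z`;
* `odd_iff` ...
* `eleven_inv` : `v` of order 5 commuting with a conjugate of `z` and `w` of order 11 in `C(v)`: `w` commutes with an involution;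
* `not_thirteen` : `v` of order 5 commuting with an involution: `13 ∤ |C(v)|`;
* `five_inv` : `w` of order 11 commuting with an involution, `x` of order 5 in `C(w)`: `x` commutes with an involution.
-/

set_option autoImplicit false
set_option maxRecDepth 100000

namespace Cfsg.Agent.H8.Mon

open Subgroup Cfsg Cfsg.Agent.LThreeMB Cfsg.Agent.LThreeB
open Cfsg.Agent.MonsterX Cfsg.Agent.MonsterX.InstData Cfsg.Agent.MonsterP Cfsg.Agent.MonsterU Cfsg.Agent.MonsterU.Ch
open Cfsg.Agent.MonsterU.Lam2 (L2)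
open Cfsg.Agent.MonsterN Cfsg.Agent.MonsterX.MainPack Cfsg.Agent.MonsterX.MainBasic Cfsg.Agent.MonsterX.Model
open Cfsg.Spor (Co1)
open Cfsg.Agent.BpSpor.MBigModel (MG zz pi chart cls card_M card_cent_z card_cent_t)
open Cfsg.Agent.H199.NSmMon (Ev)

universe u

theorem orderOf_conj' {G : Type u} [Group G] (c a : G) : orderOf (c⁻¹ * a * c) = orderOf a := by
  have := MulEquiv.orderOf_eq (MulAut.conj c⁻¹) a
  rw [MulAut.conj_apply, inv_inv] at this
  exact this

theorem conj_comm2 {G : Type u} [Group G] {a b : G} (c : G) (h : a * b = b * a) :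
    (c⁻¹ * a * c) * (c⁻¹ * b * c) = (c⁻¹ * b * c) * (c⁻¹ * a * c) := by
  calc (c⁻¹ * a * c) * (c⁻¹ * b * c) = c⁻¹ * (a * b) * c := by group
    _ = c⁻¹ * (b * a) * c := by rw [h]
    _ = _ := by group

/-- pulling back an involution -/
theorem pull {G : Type u} [Group G] {c x : G} (h : ∃ v : G, orderOf v = 2 ∧ v * (c⁻¹ * x * c) = (c⁻¹ * x * c) * v) :
    ∃ v : G, orderOf v = 2 ∧ v * x = x * v := by
  obtain ⟨v, hv, hvx⟩ := h
  refine ⟨c * v * c⁻¹, by rw [← hv]; exact MulEquiv.orderOf_eq (MulAut.conj c) v, ?_⟩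
  calc c * v * c⁻¹ * x = c * (v * (c⁻¹ * x * c)) * c⁻¹ := by group
    _ = c * ((c⁻¹ * x * c) * v) * c⁻¹ := by rw [hvx]
    _ = x * (c * v * c⁻¹) := by group

/-- in the centralizer of a central element of order 2 of a double cover -/
theorem four_dvd {H B : Type u} [Group H] [Finite H] [Group B] (hZ : Nat.card ↥(center H) = 2)
    (e : H ⧸ center H ≃* B) (hB : ∀ y : B, orderOf y = 5 → ∃ u : B, orderOf u = 2 ∧ u * y = y * u) {v : H}
    (hv : orderOf v = 5) : 4 ∣ Nat.card ↥(centralizer ({v} : Set H)) := by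
  have h5 : Fact (Nat.Prime 5) := ⟨Nat.prime_five⟩
  have hzz : ∀ c ∈ center H, c ^ 2 = 1 := by
    intro c hc
    have h1 : (⟨c, hc⟩ : ↥(center H)) ^ 2 = 1 := by rw [← hZ, pow_card_eq_one']
    exact congrArg Subtype.val h1
  have hy : orderOf (e (QuotientGroup.mk v)) = 5 := by
    rw [MulEquiv.orderOf_eq]
    refine orderOf_eq_prime ?_ ?_
    · rw [← QuotientGroup.mk_pow, ← hv, pow_orderOf_eq_one, QuotientGroup.mk_one]
    · intro h
      have h1 := hzz v ((QuotientGroup.eq_one_iff v).1 h)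
      have h2 := orderOf_dvd_of_pow_eq_one h1
      rw [hv] at h2
      norm_num at h2
  obtain ⟨u, hu, huy⟩ := hB _ hy
  obtain ⟨h, hh⟩ := QuotientGroup.mk_surjective (e.symm u)
  have h1 : (QuotientGroup.mk h : H ⧸ center H) * QuotientGroup.mk v = QuotientGroup.mk v * QuotientGroup.mk h := by
    apply e.injective
    rw [map_mul, map_mul, hh, e.apply_symm_apply, huy]
  -- `h` commutes with `v`
  have hc : h * v * h⁻¹ * v⁻¹ ∈ center H := by
    rw [← QuotientGroup.eq_one_iff]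
    show (QuotientGroup.mk h : H ⧸ center H) * QuotientGroup.mk v * (QuotientGroup.mk h)⁻¹ * (QuotientGroup.mk v)⁻¹ = 1
    rw [h1]
    group
  set c := h * v * h⁻¹ * v⁻¹ with hcdef
  have h2 : h * v * h⁻¹ = c * v := by rw [hcdef]; group
  have hcv : Commute c v := (mem_center_iff.1 hc v).symm
  have h3 : c = 1 := by
    have h4 : (c * v) ^ 5 = 1 := by
      rw [← h2, conj_pow, ← hv, pow_orderOf_eq_one, mul_one, mul_inv_cancel]
    rw [hcv.mul_pow, ← hv, pow_orderOf_eq_one, mul_one, hv] at h4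
    calc c = c ^ 5 * (c ^ 2)⁻¹ * (c ^ 2)⁻¹ := by group
      _ = 1 := by rw [h4, hzz c hc]; group
  have hhv : h * v = v * h := by
    rw [h3, one_mul] at h2
    exact mul_inv_eq_iff_eq_mul.1 h2
  -- the quotient
  set K := centralizer ({v} : Set H) with hK
  have hZK : center H ≤ K := center_le_centralizer _
  have hn : ((center H).subgroupOf K).Normal := inferInstance
  have h6 : Nat.card ↥((center H).subgroupOf K) = 2 := by
    rw [Nat.card_congr (subgroupOfEquivOfLe hZK).toEquiv, hZ]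
  have h7 : 2 ∣ Nat.card (↥K ⧸ (center H).subgroupOf K) := by
    let k : K := ⟨h, mem_centralizer_singleton_iff.2 hhv⟩
    have hu2 : (QuotientGroup.mk (h ^ 2) : H ⧸ center H) = 1 := by
      rw [QuotientGroup.mk_pow, hh, ← map_pow, ← hu, pow_orderOf_eq_one, map_one]
    have hk : orderOf (QuotientGroup.mk k : ↥K ⧸ (center H).subgroupOf K) = 2 := by
      have : Fact (Nat.Prime 2) := ⟨Nat.prime_two⟩
      refine orderOf_eq_prime ?_ ?_
      · rw [← QuotientGroup.mk_pow, QuotientGroup.eq_one_iff]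
        exact mem_subgroupOf.2 ((QuotientGroup.eq_one_iff (h ^ 2)).1 hu2)
      · intro h8
        rw [QuotientGroup.eq_one_iff] at h8
        have h9 : (QuotientGroup.mk h : H ⧸ center H) = 1 := (QuotientGroup.eq_one_iff h).2 (mem_subgroupOf.1 h8)
        rw [hh] at h9
        have h10 : u = 1 := by
          rw [← e.apply_symm_apply u, h9, map_one]
        rw [h10, orderOf_one] at hu
        norm_num at hu
    rw [← hk]
    exact orderOf_dvd_natCard _
  rw [Subgroup.card_eq_card_quotient_mul_card_subgroup ((center H).subgroupOf K), h6]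
  obtain ⟨m, hm⟩ := h7
  exact ⟨m, by rw [hm]; ring⟩

/-- **An element of order 5 commuting with a transposition commutes with a conjugate of `z`.** -/
theorem ev_of_ta {v t : MG} (hv : orderOf v = 5) (ht : LThreeB.Row.TA t) (hvt : v * t = t * v) : Ev v := by
  have hfin : Finite MG := BpSpor.MBigModel.finite
  have ht' : IsConj (tG LitFin.all.hG LitFin.all.hR) t := ht
  obtain ⟨c, hc⟩ := isConj_iff.1 ht'
  set t0 := tG LitFin.all.hG LitFin.all.hR with ht0
  have hcov := H546.MFiveFull.cover_t Uncond.all (NodesGrp.prel NodesU.hyp) (NodesNe.ne NodesU.hyp) NodesU.conj_ten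
      Cfsg.Agent.S1704.result
  obtain ⟨hZ, ⟨e⟩, -⟩ := hcov
  have hB4 : Cfsg.Spor.IsoB Cfsg.Spor.BabyMonster := ⟨MulEquiv.refl _⟩
  have h1 : (c⁻¹ * v * c) * t0 = t0 * (c⁻¹ * v * c) := by
    have h2 := conj_comm2 c hvt
    have h3 : c⁻¹ * t * c = t0 := by rw [← hc]; group
    rwa [h3] at h2
  have hBf : Finite Cfsg.Spor.BabyMonster := Nat.finite_of_card_ne_zero (by rw [NotCT.Orders.b hB4]; norm_num)
  let v' : ↥(centralizer ({t0} : Set MG)) := ⟨c⁻¹ * v * c, mem_centralizer_singleton_iff.2 h1⟩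
  have hv' : orderOf v' = 5 := by rw [← Subgroup.orderOf_coe]; exact (orderOf_conj' c v).trans hv
  have h4 := four_dvd hZ e (fun y hy => H705.OreB.BInvFive.exists_inv hB4 hy) hv'
  have h5 : 4 ∣ Nat.card ↥(centralizer ({v} : Set MG)) := by
    rw [← BpSpor.card_cent_of_conj (c := c⁻¹) (u := v) (v := c⁻¹ * v * c) (by rw [inv_inv])]
    refine h4.trans ?_
    rw [← card_map_of_injective (centralizer ({t0} : Set MG)).subtype_injective]
    refine card_dvd_of_le ?_
    rintro _ ⟨k, hk, rfl⟩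
    exact mem_centralizer_singleton_iff.2 (congrArg Subtype.val (mem_centralizer_singleton_iff.1 hk))
  exact (CpAutBFive.EvenRow.cases hv).resolve_right fun h => h h5

/-- **An element of order 5 commuting with an involution commutes with a conjugate of `z`.** -/
theorem ev_of_inv {v s : MG} (hv : orderOf v = 5) (hs : orderOf s = 2) (hsv : s * v = v * s) : Ev v := by
  rcases cls hs with ⟨g, hg⟩ | ht
  · exact ⟨g, by rw [hg]; exact hsv⟩
  · exact ev_of_ta hv ht hsv.symm

/-- `13` -/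
theorem not_thirteen {v : MG} (hv : orderOf v = 5) (he : Ev v) : ¬ 13 ∣ Nat.card ↥(centralizer ({v} : Set MG)) := by
  rcases H199.AbMon.five' hv he with h | ⟨-, -, h⟩
  · rw [h]
    norm_num
  · exact h

/-- **`w` of order 11 commuting with `v` of order 5 commuting with a conjugate of `z`.** -/
theorem eleven_inv {v w : MG} (hv : orderOf v = 5) (he : Ev v) (hw : orderOf w = 11) (hwv : w * v = v * w) :
    ∃ s : MG, orderOf s = 2 ∧ s * w = w * s := by
  have hfin : Finite MG := BpSpor.MBigModel.finite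
  have hsim : IsSimpleGroup MG := BpSpor.MBigModel.simple
  obtain ⟨c, hc⟩ := he
  apply pull (c := c)
  have h1 : (c⁻¹ * v * c) * zz = zz * (c⁻¹ * v * c) := by
    have h2 := conj_comm2 c hc.symm
    have h3 : c⁻¹ * (c * zz * c⁻¹) * c = zz := by group
    rwa [h3] at h2
  let v' : ↥(centralizer ({zz} : Set MG)) := ⟨c⁻¹ * v * c, mem_centralizer_singleton_iff.2 h1⟩
  have hvo : orderOf (c⁻¹ * v * c) = 5 := (orderOf_conj' c v).trans hv
  have hv' : orderOf v' = 5 := by rw [← Subgroup.orderOf_coe]; exact hvo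
  have hwo : orderOf (c⁻¹ * w * c) = 11 := (orderOf_conj' c w).trans hw
  have hwv' := conj_comm2 c hwv
  rcases MFive.cases_five chart BpSpor.M5.trNe (CpAutBFive.Closed.coFive CpAutBFive.Final.hJ)
    CpAutBFive.Closed.hnEight BpSpor.M5.hasPair hv' with hN | ⟨x₀, k, i, hx₀, hfr, hk⟩
  · obtain ⟨s, hs, hsw⟩ := H800.ME.Final.exists_inv (c := c⁻¹ * v * c) (y := c⁻¹ * w * c) hvo hwo hwv'.symm hN
    exact ⟨s, hs, hsw.symm⟩
  · exfalso
    obtain ⟨e⟩ := MFive.exists_cent_equiv Nat.prime_five (x := (v' : MG)) (y := (x₀ : MG)) hvo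
      (by rw [Subgroup.orderOf_coe, hx₀]) hk
    have h2 := (H199.AbMon.five_zero' hx₀ hfr).1
    rw [Nat.card_congr e.toEquiv] at h2
    apply h2
    rw [← hwo, ← Subgroup.orderOf_mk _ (mem_centralizer_singleton_iff.2 hwv')]
    exact orderOf_dvd_natCard _

/-- **`x` of order 5 commuting with `w` of order 11 commuting with an involution.** -/
theorem five_inv {w s x : MG} (hw : orderOf w = 11) (hs : orderOf s = 2) (hsw : w * s = s * w) (hx : orderOf x = 5)
    (hxw : x * w = w * x) : ∃ v : MG, orderOf v = 2 ∧ v * x = x * v := by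
  have hfin : Finite MG := BpSpor.MBigModel.finite
  have hsim : IsSimpleGroup MG := BpSpor.MBigModel.simple
  obtain ⟨c, hc⟩ := BpSpor.MBigEleven.comm_z hw hs hsw
  apply pull (c := c)
  have h1 : (c⁻¹ * w * c) * zz = zz * (c⁻¹ * w * c) := by
    have h2 := conj_comm2 c hc.symm
    have h3 : c⁻¹ * (c * zz * c⁻¹) * c = zz := by group
    rwa [h3] at h2
  let w' : ↥(centralizer ({zz} : Set MG)) := ⟨c⁻¹ * w * c, mem_centralizer_singleton_iff.2 h1⟩
  have hwo : orderOf (c⁻¹ * w * c) = 11 := (orderOf_conj' c w).trans hw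
  have hw' : orderOf w' = 11 := by rw [← Subgroup.orderOf_coe]; exact hwo
  have hxo : orderOf (c⁻¹ * x * c) = 5 := (orderOf_conj' c x).trans hx
  have hxw' := conj_comm2 c hxw
  obtain ⟨x₀, hx₀, hpx⟩ := H800.ME.Final.exists_x
  have hx₀o : orderOf (x₀ : MG) = 11 := by rw [Subgroup.orderOf_coe, hx₀]
  obtain ⟨e⟩ := H800.ME.Twelve.iso chart hx₀ hpx (H800.ME.Final.dvd_XX hx₀o)
  obtain ⟨k, hk⟩ := CpAutON.Gen.conj_into (p := 11) (BpSpor.MBigModel.not_sq (Or.inl rfl)
    BpSpor.MBigModel.orderOf_zz) hw' hx₀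
  obtain ⟨i, hi⟩ := hk
  have hi' : (x₀ : MG) ^ i = (k : MG) * (c⁻¹ * w * c) * (k : MG)⁻¹ := congrArg Subtype.val hi
  -- `x₀` is a power of the conjugate
  have hio : orderOf ((x₀ : MG) ^ i) = 11 := by
    rw [hi', ← hwo]
    exact MulEquiv.orderOf_eq (MulAut.conj (k : MG)) _
  have hz : zpowers ((x₀ : MG) ^ i) = zpowers (x₀ : MG) := by
    apply Subgroup.eq_of_le_of_card_ge
    · rw [zpowers_le]; exact ⟨i, rfl⟩
    · rw [Nat.card_zpowers, Nat.card_zpowers, hio, hx₀o]
  obtain ⟨j, hj⟩ : (x₀ : MG) ∈ zpowers ((x₀ : MG) ^ i) := by rw [hz]; exact mem_zpowers _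
  have hj' : ((x₀ : MG) ^ i) ^ j = x₀ := hj
  apply pull (c := (k : MG)⁻¹)
  rw [inv_inv]
  refine comm_of_quot (q := 5) (k := 1) (r := 11) (g := (x₀ : MG)) Nat.prime_five (by decide) hx₀o ?_ ?_ ?_
    (v := e.symm CoThreeStd.MTwelve.y) ?_ ?_
  · rw [← hxo]
    exact MulEquiv.orderOf_eq (MulAut.conj (k : MG)) _
  · rw [← hj']
    have h4 : Commute ((k : MG) * (c⁻¹ * x * c) * (k : MG)⁻¹) ((x₀ : MG) ^ i) := by
      rw [hi']
      show _ * _ = _ * _
      calc (k : MG) * (c⁻¹ * x * c) * (k : MG)⁻¹ * ((k : MG) * (c⁻¹ * w * c) * (k : MG)⁻¹)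
          = k * ((c⁻¹ * x * c) * (c⁻¹ * w * c)) * (k : MG)⁻¹ := by group
        _ = k * ((c⁻¹ * w * c) * (c⁻¹ * x * c)) * (k : MG)⁻¹ := by rw [hxw']
        _ = _ := by group
    exact (h4.zpow_right j).eq
  · rw [H199.NSmMon.card_XX, hx₀o, Nat.card_congr e.toEquiv, Cfsg.Agent.MTwelveType.SylowModel.card_M12]
    norm_num
  · rw [MulEquiv.orderOf_eq]
    have : Fact (Nat.Prime 2) := ⟨Nat.prime_two⟩
    exact orderOf_eq_prime (by rw [pow_two]; exact Cfsg.Agent.CoThreeStd.MTwelve.y_sq)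
      Cfsg.Agent.CoThreeStd.MTwelve.y_ne_one
  · rw [LThreeB.card_centralizer_congr e, e.apply_symm_apply, Cfsg.Agent.CoThreeStd.MTwelve.card_cent_y]
    norm_num

/-- **No element of order 19 commutes with an element of order 5 with odd centralizer.** -/
theorem nineteen (h19 : ∀ y : MG, orderOf y = 19 → Nat.card ↥(centralizer ({y} : Set MG)) = 60 * 19) {x y : MG}
    (hx : orderOf x = 5) (hy : orderOf y = 19) (hxy : x * y = y * x) : ∃ v : MG, orderOf v = 2 ∧ v * x = x * v := by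
  have hfin : Finite MG := BpSpor.MBigModel.finite
  have h2F : Fact (Nat.Prime 2) := ⟨Nat.prime_two⟩
  have h19F : Fact (Nat.Prime 19) := ⟨by norm_num⟩
  obtain ⟨a, ha, ⟨e⟩⟩ := H573.Spor.Monster.exists_five
  have hca : Nat.card ↥(centralizer ({a} : Set MG)) = 5 * 273030912000000 := by
    rw [H199.NSmMon.card_XX, ha, Nat.card_congr e.toEquiv, Cfsg.Agent.S1701.result.2]
  obtain ⟨b, hb⟩ := exists_prime_orderOf_dvd_card' (G := ↥(centralizer ({a} : Set MG))) 19 (by rw [hca]; norm_num)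
  obtain ⟨s, hs⟩ := exists_prime_orderOf_dvd_card' (G := ↥(centralizer ({a} : Set MG))) 2 (by rw [hca]; norm_num)
  have hbo : orderOf (b : MG) = 19 := by rw [Subgroup.orderOf_coe, hb]
  have hso : orderOf (s : MG) = 2 := by rw [Subgroup.orderOf_coe, hs]
  have hba : (b : MG) * a = a * b := mem_centralizer_singleton_iff.1 b.2
  have hsa : (s : MG) * a = a * s := mem_centralizer_singleton_iff.1 s.2
  obtain ⟨k, i, hi⟩ := CpAutON.Gen.conj_into (G := MG) (p := 19) (by rw [card_M]; norm_num) hy hbo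
  have hi' : (b : MG) ^ i = k * y * k⁻¹ := hi
  have hio : orderOf ((b : MG) ^ i) = 19 := by
    rw [hi', ← hy]
    exact MulEquiv.orderOf_eq (MulAut.conj k) _
  have hz : zpowers ((b : MG) ^ i) = zpowers (b : MG) := by
    apply Subgroup.eq_of_le_of_card_ge
    · rw [zpowers_le]; exact ⟨i, rfl⟩
    · rw [Nat.card_zpowers, Nat.card_zpowers, hio, hbo]
  obtain ⟨j, hj⟩ : (b : MG) ∈ zpowers ((b : MG) ^ i) := by rw [hz]; exact mem_zpowers _
  have hj' : ((b : MG) ^ i) ^ j = b := hj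
  have hxb : (k * x * k⁻¹) * (b : MG) = b * (k * x * k⁻¹) := by
    rw [← hj']
    have h4 : Commute (k * x * k⁻¹) ((b : MG) ^ i) := by
      rw [hi']
      show _ * _ = _ * _
      calc k * x * k⁻¹ * (k * y * k⁻¹) = k * (x * y) * k⁻¹ := by group
        _ = k * (y * x) * k⁻¹ := by rw [hxy]
        _ = _ := by group
    exact (h4.zpow_right j).eq
  have hxo : orderOf (k * x * k⁻¹) = 5 := by
    rw [← hx]
    exact MulEquiv.orderOf_eq (MulAut.conj k) _
  obtain ⟨d, hd, i2, hd2⟩ := MSevenT.conj_into (C := centralizer ({(b : MG)} : Set MG)) (T := zpowers a) (by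
    rw [zpowers_le]
    exact mem_centralizer_singleton_iff.2 hba.symm) (p := 5) (k := 1) Nat.prime_five (by rw [h19 _ hbo]; norm_num)
    (by rw [Nat.card_zpowers, ha]; norm_num) hxo (mem_centralizer_singleton_iff.2 hxb)
  have hd2' : a ^ i2 = d * (k * x * k⁻¹) * d⁻¹ := hd2
  refine pull (c := (d * k)⁻¹) ⟨s, hso, ?_⟩
  have h5 : (d * k)⁻¹⁻¹ * x * (d * k)⁻¹ = a ^ i2 := by rw [hd2']; group
  rw [h5]
  exact ((show Commute (s : MG) a from hsa).zpow_right i2).eq

end Cfsg.Agent.H8.Mon
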