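import Cfsg.Agent.H8.Mon.Sharp
import Cfsg.Agent.H241.Deg.MonFinal

/-!
# The Monster: the exact centralizers used in `H8/Mon/Bound.lean` (helper8)
-/

set_option autoImplicit false

namespace Cfsg.Agent.H8.Mon

open Subgroup Cfsg Cfsg.Agent.H940.Eng
open Cfsg.Agent.BpSpor.MBigModel (MG)

/-- **The exact centralizers.** -/
theorem exact (B : Base) : Exact where
  nineteen _ hy := Cfsg.Agent.H715.Mon.Exact.card19' (Cfsg.Agent.H715.Mon.Grp.sThree B) hy
  twentythree _ hy := Cfsg.Agent.H715.Mon.Exact.card23 (Cfsg.Agent.H715.Mon.Grp.sThree B) hy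
  thirtyone _ hy := Cfsg.Agent.H715.Mon.Cent.card31 (Cfsg.Agent.H715.Mon.Grp.sThree B) hy
  fortyone _ hy := Cfsg.Agent.H241.Deg.Mon.card41 B hy
  seventyone _ hy := (Cfsg.Agent.H241.Deg.Mon.norm71 B hy).1

/-- order 5, commuting with no involution -/
theorem card5_odd (B : Base) {x : MG} (hx : orderOf x = 5) (hno : NoInv x) :
    Nat.card ↥(centralizer ({x} : Set MG)) ≤ 2 * 10 ^ 15 := five_odd' (exact B) hx hno

/-- order 11 -/
theorem card11' (B : Base) {x : MG} (hx : orderOf x = 11) :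
    Nat.card ↥(centralizer ({x} : Set MG)) ≤ 2 * 10 ^ 15 := eleven_le (exact B) hx

end Cfsg.Agent.H8.Mon
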