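import Cfsg.Agent.H740.OreM.Three
import Cfsg.Agent.H199.AbMon

/-!
# The Monster: an element of order 5 or 11 commuting with an element of order 3 commuting with a transposition (helper8)

* `comm_of_sylow` : `x` of order `q` in `C(g)`, `q ^ k` the `q`-part of `|C(g)|` and a divisor of `|C(g) ∩ C(s)|`;
* `three_kill` : `g` of order 3 commuting with a `2A`-involution and `x` of order 5 or 11 in `C(g)`: `x` commutes with an
  involution.
-/

set_option autoImplicit false
set_option maxRecDepth 100000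

namespace Cfsg.Agent.H8.Mon

open Subgroup Cfsg Cfsg.Agent.LThreeMB Cfsg.Agent.LThreeB
open Cfsg.Agent.MonsterX Cfsg.Agent.MonsterX.InstData Cfsg.Agent.MonsterP Cfsg.Agent.MonsterU Cfsg.Agent.MonsterU.Ch
open Cfsg.Agent.MonsterU.Lam2 (L2)
open Cfsg.Agent.MonsterN
open Cfsg.Spor (Co1)
open Cfsg.Agent.BpSpor.MBigModel (MG zz pi chart cls card_M card_cent_z card_cent_t)
open Cfsg.Agent.H740.OreM (inputs trNe hasPair ne_zz)

universe u

/-! ### General -/

/-- **The Sylow argument.** -/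
theorem comm_of_sylow {G : Type u} [Group G] [Finite G] {q k : ℕ} (hq : q.Prime) {g x s : G} (hx : orderOf x = q)
    (hxg : x * g = g * x) (h1 : ¬ q ^ (k + 1) ∣ Nat.card ↥(centralizer ({g} : Set G))) (hs : orderOf s = 2)
    (h2 : q ^ k ∣ Nat.card ↥(centralizer ({g} : Set G) ⊓ centralizer ({s} : Set G))) :
    ∃ v : G, orderOf v = 2 ∧ v * x = x * v := by
  obtain ⟨c, hc, hcx⟩ := MSevenT.conj_into (C := centralizer ({g} : Set G))
    (T := centralizer ({g} : Set G) ⊓ centralizer ({s} : Set G)) inf_le_left hq h1 h2 hx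
    (mem_centralizer_singleton_iff.2 hxg)
  have h3 := mem_centralizer_singleton_iff.1 hcx.2
  refine ⟨c⁻¹ * s * c, ?_, ?_⟩
  · rw [← hs]
    have := MulEquiv.orderOf_eq (MulAut.conj c⁻¹) s
    rw [MulAut.conj_apply, inv_inv] at this
    exact this
  · calc c⁻¹ * s * c * x = c⁻¹ * (s * (c * x * c⁻¹)) * c := by group
      _ = c⁻¹ * ((c * x * c⁻¹) * s) * c := by rw [h3]
      _ = x * (c⁻¹ * s * c) := by group

/-- an involution of `C(g) / ⟨g⟩` lifts -/
theorem exists_lift {G : Type u} [Group G] {g : G} {r : ℕ} (hr : Odd r) (hg : orderOf g = r) {v : XX g}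
    (hv : orderOf v = 2) : ∃ (s : G) (hs : s * g = g * s), orderOf s = 2 ∧ mk g hs = v := by
  obtain ⟨c, hc, hcv⟩ := exists_mk v
  have hc' : Commute c g := hc
  have h1 : (mk g hc) ^ 2 = 1 := by rw [hcv, ← hv, pow_orderOf_eq_one]
  have h2 : mk g (show (c * c) * g = g * (c * c) from (hc'.mul_left hc').eq) = 1 := by
    rw [← h1, pow_two]
    rfl
  obtain ⟨i, hi⟩ := (LThreeMB.mk_eq_one _).1 h2
  obtain ⟨m, hm⟩ := hr
  have h3 : (c ^ r) * (c ^ r) = 1 := by
    rw [← (Commute.refl c).mul_pow r, ← hi, ← hg, ← zpow_natCast, ← zpow_mul, mul_comm, zpow_mul, zpow_natCast,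
      pow_orderOf_eq_one, one_zpow]
  have h4 : mk g (show (c ^ r) * g = g * (c ^ r) from (hc'.pow_left r).eq) = v := by
    have h5 : mk g (show (c ^ r) * g = g * (c ^ r) from (hc'.pow_left r).eq) = (mk g hc) ^ r := rfl
    rw [h5, hm, pow_succ, pow_mul, h1, one_pow, one_mul, hcv]
  refine ⟨c ^ r, (hc'.pow_left r).eq, ?_, h4⟩
  have : Fact (Nat.Prime 2) := ⟨Nat.prime_two⟩
  refine orderOf_eq_prime (by rw [pow_two, h3]) fun h5 => ?_
  have h6 : v = 1 := by
    rw [← h4]
    refine (LThreeMB.mk_eq_one _).2 ⟨0, ?_⟩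
    rw [h5, zpow_zero]
  rw [h6, orderOf_one] at hv
  norm_num at hv

/-- involutions equal modulo `⟨y⟩` -/
theorem eq_of_mk {G : Type u} [Group G] {y s s' : G} {r : ℕ} (hr : Odd r) (hy : orderOf y = r) (h1 : s * s = 1)
    (h1' : s' * s' = 1) (hs : s * y = y * s) (hs' : s' * y = y * s') (h : mk y hs = mk y hs') : s = s' := by
  obtain ⟨i, hi⟩ := (mk_eq_mk hs hs').1 h
  have h2 : y ^ i * y ^ i = 1 := by
    have h3 : Commute s (y ^ i) := (show Commute s y from hs).zpow_right i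
    calc y ^ i * y ^ i = (s * s) * (y ^ i * y ^ i) := by rw [h1, one_mul]
      _ = s * (s * y ^ i) * y ^ i := by group
      _ = s * (y ^ i * s) * y ^ i := by rw [h3.eq]
      _ = (s * y ^ i) * (s * y ^ i) := by group
      _ = 1 := by rw [hi, h1']
  have h4 : y ^ i = 1 := by
    obtain ⟨m, hm⟩ := hr
    have h5 : (y ^ i) ^ r = 1 := by
      rw [← hy, ← zpow_natCast, ← zpow_mul, mul_comm, zpow_mul, zpow_natCast, pow_orderOf_eq_one, one_zpow]
    rw [hm, pow_succ, pow_mul, pow_two, h2, one_pow, one_mul] at h5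
    exact h5
  rw [← hi, h4, mul_one]

/-- elements commuting with an involution modulo `⟨y⟩` -/
theorem comm_of_mk {G : Type u} [Group G] {y s g : G} {r : ℕ} (hr : Odd r) (hy : orderOf y = r) (h1 : s * s = 1)
    (hs : s * y = y * s) (hg : g * y = y * g) (h : mk y hg * mk y hs = mk y hs * mk y hg) : g * s = s * g := by
  have h2 : (g * s * g⁻¹) * (g * s * g⁻¹) = 1 := by
    calc (g * s * g⁻¹) * (g * s * g⁻¹) = g * (s * s) * g⁻¹ := by group
      _ = 1 := by rw [h1]; group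
  have h3 : mk y (LThreeMB.conj_comm hg hs) = mk y hs := by
    have h4 : mk y (LThreeMB.conj_comm hg hs) = mk y hg * mk y hs * (mk y hg)⁻¹ := rfl
    rw [h4, h, mul_inv_cancel_right]
  exact mul_inv_eq_iff_eq_mul.1 (eq_of_mk hr hy h2 h1 _ hs h3)

/-- **`|C_K(s)|` divides `|C(y) ∩ C(s)|`**, `K = C(y)/⟨y⟩` -/
theorem dvd_inf {G : Type u} [Group G] [Finite G] {y s : G} {r : ℕ} (hr : Odd r) (hy : orderOf y = r)
    (hs2 : s * s = 1) (hs : s * y = y * s) :
    Nat.card (centralizer ({mk y hs} : Set (XX y))) ∣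
      Nat.card ↥(centralizer ({y} : Set G) ⊓ centralizer ({s} : Set G)) := by
  let f : ↥(centralizer ({y} : Set G) ⊓ centralizer ({s} : Set G)) →* XX y :=
    (QuotientGroup.mk' (Zx y)).comp (Subgroup.inclusion inf_le_left)
  have h1 : centralizer ({mk y hs} : Set (XX y)) ≤ f.range := by
    intro u hu
    obtain ⟨g, hg, rfl⟩ := exists_mk u
    have h2 := mem_centralizer_singleton_iff.1 hu
    exact ⟨⟨g, mem_centralizer_singleton_iff.2 hg, mem_centralizer_singleton_iff.2 (comm_of_mk hr hy hs2 hs hg h2)⟩, rfl⟩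
  exact (card_dvd_of_le h1).trans (card_range_dvd f)

/-- **The case of the quotient.** -/
theorem comm_of_quot {G : Type u} [Group G] [Finite G] {q k r : ℕ} (hq : q.Prime) (hr : Odd r) {g x : G}
    (hg : orderOf g = r) (hx : orderOf x = q) (hxg : x * g = g * x)
    (h1 : ¬ q ^ (k + 1) ∣ Nat.card ↥(centralizer ({g} : Set G))) {v : XX g} (hv : orderOf v = 2)
    (h2 : q ^ k ∣ Nat.card ↥(centralizer ({v} : Set (XX g)))) : ∃ v : G, orderOf v = 2 ∧ v * x = x * v := by
  obtain ⟨s, hs, hs2, rfl⟩ := exists_lift hr hg hv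
  refine comm_of_sylow hq hx hxg h1 hs2 (h2.trans (dvd_inf hr hg ?_ hs))
  rw [← pow_two, ← hs2, pow_orderOf_eq_one]

/-! ### Elements of order 3 of the Monster -/

/-- the numbers -/
def Adm (q k : ℕ) : Prop := (q = 5 ∧ k = 2) ∨ (q = 11 ∧ k = 1)

theorem Adm.prime {q k : ℕ} (h : Adm q k) : q.Prime := by
  rcases h with ⟨rfl, rfl⟩ | ⟨rfl, rfl⟩ <;> norm_num

/-- **Fixed rank 0.** -/
theorem kill_zero {q k : ℕ} (hqk : Adm q k) {g : centralizer ({zz} : Set MG)} (hg : orderOf g = 3)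
    (hfr : fr (pi g) = 1) {x : MG} (hx : orderOf x = q) (hxg : x * g = g * x) :
    ∃ v : MG, orderOf v = 2 ∧ v * x = x * v := by
  have hfin : Finite MG := BpSpor.MBigModel.finite
  have hg3 : g ^ 3 = 1 := by rw [← hg, pow_orderOf_eq_one]
  have h0 := H199.AbMon.three_zero' hg hfr
  obtain ⟨e⟩ := inputs.suz _ (orderOf_pi chart hg) hfr
  have hc : Nat.card (XX (pi g)) = 448345497600 := by rw [Nat.card_congr e.toEquiv, Cfsg.Agent.S1694.result.2]
  have h1 : Nat.card (XX (pi g)) ∣ Nat.card ↥(XT (g : MG) zz) := by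
    show _ ∣ Nat.card ↥(XT (g : MG) ((zD g : ↥(centralizer ({(g : MG)} : Set MG))) : MG))
    rw [← Nat.card_congr (centXT' (zD g)).toEquiv]
    exact Subgroup.card_dvd_of_surjective (toXX pi g) (toXX_surj chart hg3)
  rw [hc] at h1
  refine comm_of_sylow (s := zz) (k := k) hqk.prime hx hxg (fun h => ?_) BpSpor.MBigModel.orderOf_zz (dvd_trans ?_ h1)
  · have h2 := h.trans h0
    rcases hqk with ⟨rfl, rfl⟩ | ⟨rfl, rfl⟩ <;> norm_num at h2
  · rcases hqk with ⟨rfl, rfl⟩ | ⟨rfl, rfl⟩ <;> norm_num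

open Cfsg.Spor Cfsg.Agent.R08 in
/-- an involution of `Fi24'` with a centralizer of order divisible by `|Fi22|` -/
theorem exists_fi {X : Type u} [Group X] (h : Spor.IsoFi24' X) :
    ∃ t : X, orderOf t = 2 ∧ 64561751654400 ∣ Nat.card ↥(centralizer ({t} : Set X)) := by
  obtain ⟨e⟩ := h
  have h := KFacts.FiTF.Tet.isTet (t := 0) (by norm_num)
  generalize KFacts.FiTF.Defs.D 0 0 = a at h
  generalize KFacts.FiTF.Defs.D 0 1 = b at h
  generalize KFacts.FiTF.Defs.D 0 2 = c at h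
  generalize KFacts.FiTF.Defs.D 0 3 = d at h
  obtain ⟨P⟩ := TetFi24A.exists_at h.ha h.hb h.nab h.ab
  let t : Spor.Fi24' := ⟨a * b, FiTwentyFour.even h.ha h.hb⟩
  have ht : orderOf t = 2 := by
    have : Fact (Nat.Prime 2) := ⟨Nat.prime_two⟩
    have aa : a * a = 1 := FiTwentyFour.sq h.ha
    refine orderOf_eq_prime ?_ ?_
    · apply Subtype.ext
      show (a * b) ^ 2 = 1
      have bb : b * b = 1 := FiTwentyFour.sq h.hb
      have ba : b * a = a * b := h.ab.eq.symm
      rw [pow_two]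
      calc a * b * (a * b) = a * (b * a) * b := by group
        _ = (a * a) * (b * b) := by rw [ba]; group
        _ = 1 := by rw [aa, bb, one_mul]
    · intro h1
      have h2 : a * b = 1 := congrArg Subtype.val h1
      exact h.nab ((eq_inv_of_mul_eq_one_right h2).trans (eq_inv_of_mul_eq_one_right aa).symm).symm
  have hN : Nat.card (CTwoTab.FiTF.N a b) = 2 * 64561751654400 := by
    rw [Nat.card_congr (CTwoTab.FiTF.eN a b).toEquiv, OddHalf.D4.Spor.FiTF.card_Cab P]
  have hle : CTwoTab.FiTF.N a b ≤ centralizer ({t} : Set Spor.Fi24') := CTwoTab.FiTF.N_le rfl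
  refine ⟨e.symm t, by rw [MulEquiv.orderOf_eq, ht], ?_⟩
  rw [LThreeB.card_centralizer_congr e.symm.symm, MulEquiv.symm_symm, MulEquiv.apply_symm_apply]
  exact (Dvd.intro_left 2 rfl).trans ((hN ▸ card_dvd_of_le hle))

/-- **In `C(z)`.** -/
theorem kill_in {q k : ℕ} (hqk : Adm q k) {g : centralizer ({zz} : Set MG)} (hg : orderOf g = 3) {t : MG}
    (ht : LThreeB.Row.TA t) (hgt : (g : MG) * t = t * g) {x : MG} (hx : orderOf x = q) (hxg : x * g = g * x) :
    ∃ v : MG, orderOf v = 2 ∧ v * x = x * v := by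
  have hfin : Finite MG := BpSpor.MBigModel.finite
  have hs : IsSimpleGroup MG := BpSpor.MBigModel.simple
  have hto := LThreeB.Final.orderOf_of_TA ht
  have hgo : orderOf (g : MG) = 3 := by rw [Subgroup.orderOf_coe, hg]
  rcases inputs.ranks (pi g) (orderOf_pi chart hg) with h1 | h1 | h1 | h1
  · exact kill_zero hqk hg h1 hx hxg
  · obtain ⟨x₀, u, w, hx₀, hfr₀, huz, hux, hne, hw⟩ := hasPair
    obtain ⟨c, hc⟩ := conj_six chart trNe inputs.ranks inputs.six
      (fun x hx h2 => ⟨(good_of_inputs chart inputs hx h2 : Good.{0} _).simple,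
        (good_of_inputs chart inputs hx h2 : Good.{0} _).nc⟩) hx₀ hfr₀ huz hux hne hw hg h1
    obtain ⟨v, hv, hvx⟩ := kill_zero hqk hx₀ hfr₀ (x := c * x * c⁻¹) (by
      rw [← hx]
      exact MulEquiv.orderOf_eq (MulAut.conj c) x) (by
      rw [← hc]
      calc c * x * c⁻¹ * (c * g * c⁻¹) = c * (x * g) * c⁻¹ := by group
        _ = c * (g * x) * c⁻¹ := by rw [hxg]
        _ = _ := by group)
    refine ⟨c⁻¹ * v * c, ?_, ?_⟩
    · rw [← hv]
      have := MulEquiv.orderOf_eq (MulAut.conj c⁻¹) v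
      rw [MulAut.conj_apply, inv_inv] at this
      exact this
    · calc c⁻¹ * v * c * x = c⁻¹ * (v * (c * x * c⁻¹)) * c := by group
        _ = c⁻¹ * ((c * x * c⁻¹) * v) * c := by rw [hvx]
        _ = x * (c⁻¹ * v * c) := by group
  · -- `Th`
    exfalso
    obtain ⟨e⟩ := isoTh_of_inputs chart inputs hg h1
    have hzg : zz * (g : MG) = g * zz := (mem_centralizer_singleton_iff.1 g.2).symm
    obtain ⟨c, hc⟩ := MSevenT.conj_of_one (x := (g : MG)) (by rw [hgo]; decide) (fun a b ha hb => by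
      have h2 := ThOneClass.oneClass (e a) (e b) (by rw [MulEquiv.orderOf_eq, ha]) (by rw [MulEquiv.orderOf_eq, hb])
      obtain ⟨d, hd⟩ := isConj_iff.1 h2
      refine isConj_iff.2 ⟨e.symm d, ?_⟩
      apply e.injective
      rw [map_mul, map_mul, map_inv, e.apply_symm_apply]
      exact hd) (i := zz) (z := t) BpSpor.MBigModel.orderOf_zz hto hzg hgt.symm
    exact ne_zz ht hc
  · -- `Fi24'`
    have hI := isoFi_of_inputs chart inputs hg h1
    obtain ⟨v, hv, hv2⟩ := exists_fi hI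
    obtain ⟨e⟩ := hI
    have hcard : Nat.card ↥(centralizer ({(g : MG)} : Set MG)) = 3 * 1255205709190661721292800 := by
      rw [H199.NSmMon.card_XX, hgo, Nat.card_congr e.toEquiv, Cfsg.Agent.S1698.result.2]
    refine comm_of_quot (k := k) (r := 3) hqk.prime (by decide) hgo hx hxg (fun h => ?_) hv (dvd_trans ?_ hv2)
    · rw [hcard] at h
      rcases hqk with ⟨rfl, rfl⟩ | ⟨rfl, rfl⟩ <;> norm_num at h
    · rcases hqk with ⟨rfl, rfl⟩ | ⟨rfl, rfl⟩ <;> norm_num

/-- **`x` of order 5 or 11 commutes with an element of order 3 commuting with a transposition.** -/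
theorem three_kill {q k : ℕ} (hqk : Adm q k) {g t x : MG} (hg : orderOf g = 3) (ht : LThreeB.Row.TA t)
    (hgt : g * t = t * g) (hx : orderOf x = q) (hxg : x * g = g * x) : ∃ v : MG, orderOf v = 2 ∧ v * x = x * v := by
  have hto := LThreeB.Final.orderOf_of_TA ht
  obtain ⟨c, hc⟩ := Cfsg.Agent.LThreeM.FiRow.exists_z_of_comm (x := g) (v := t) (by rw [← hg, pow_orderOf_eq_one])
    (by rw [← pow_two, ← hto, pow_orderOf_eq_one]) (by
      rintro rfl
      rw [orderOf_one] at hto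
      norm_num at hto) hgt
  have h1 : (c⁻¹ * g * c) * zz = zz * (c⁻¹ * g * c) := by
    calc (c⁻¹ * g * c) * zz = c⁻¹ * (g * (c * zz * c⁻¹)) * c := by group
      _ = c⁻¹ * ((c * zz * c⁻¹) * g) * c := by rw [hc]
      _ = zz * (c⁻¹ * g * c) := by group
  have hco : ∀ {a : MG} {n : ℕ}, orderOf a = n → orderOf (c⁻¹ * a * c) = n := by
    intro a n ha
    rw [← ha]
    have := MulEquiv.orderOf_eq (MulAut.conj c⁻¹) a
    rw [MulAut.conj_apply, inv_inv] at this
    exact this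
  have hcc : ∀ {a b : MG}, a * b = b * a → (c⁻¹ * a * c) * (c⁻¹ * b * c) = (c⁻¹ * b * c) * (c⁻¹ * a * c) := by
    intro a b hab
    calc (c⁻¹ * a * c) * (c⁻¹ * b * c) = c⁻¹ * (a * b) * c := by group
      _ = c⁻¹ * (b * a) * c := by rw [hab]
      _ = _ := by group
  let g' : centralizer ({zz} : Set MG) := ⟨c⁻¹ * g * c, mem_centralizer_singleton_iff.2 h1⟩
  have hg' : orderOf g' = 3 := by
    rw [← Subgroup.orderOf_coe]
    exact hco hg
  have ht' : LThreeB.Row.TA (c⁻¹ * t * c) := by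
    have h5 := LThreeB.Par.ta_conj LitFin.all t c⁻¹ ht
    rw [inv_inv] at h5
    exact h5
  obtain ⟨v, hv, hvx⟩ := kill_in hqk hg' ht' (hcc hgt) (hco hx) (hcc hxg)
  refine ⟨c * v * c⁻¹, ?_, ?_⟩
  · rw [← hv]
    exact MulEquiv.orderOf_eq (MulAut.conj c) v
  · calc c * v * c⁻¹ * x = c * (v * (c⁻¹ * x * c)) * c⁻¹ := by group
      _ = c * ((c⁻¹ * x * c) * v) * c⁻¹ := by rw [hvx]
      _ = x * (c * v * c⁻¹) := by group

end Cfsg.Agent.H8.Mon
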